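import Cfsg.Agent.H15.GT.EFiveE

/-!
# S5211 (E5b): `p ≥ 5`, `Z₃ ≤ E ≤ Q_b`, `E ≰ Q_a`: `E = Q_b` (helper15)
-/

set_option autoImplicit false

namespace Cfsg.Agent.H15.GT

open Cfsg Cfsg.FusionSystem Cfsg.Agent.H802 Cfsg.Agent.H779.G2 Cfsg.Agent.H756.PU Cfsg.Agent.H103.GT
open Cfsg.Agent.H710.GT (ne_zero_of exists_both inv_cent inv_self inv_bot cm_one)
open scoped commutatorElement

universe u

section bound

variable {K : Type u} [Field K]

/-- a totally isotropic subgroup of `K²` (determinants in a proper subgroup `T` of `K`) has order at most `|K|` -/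
theorem iso_bound [Finite K] {p : ℕ} [Fact p.Prime] [CharP K p] (W : AddSubgroup (K × K)) (T : AddSubgroup K) (hT : T ≠ ⊤)
    (h : ∀ w ∈ W, ∀ v ∈ W, w.1 * v.2 - w.2 * v.1 ∈ T) : Nat.card W ≤ Nat.card K := by
  let _ : Algebra (ZMod p) K := ZMod.algebra K p
  have hfin : Module.Finite (ZMod p) K := Module.Finite.of_finite
  set T' : Submodule (ZMod p) K := AddSubgroup.toZModSubmodule p T with hT'
  set W' : Submodule (ZMod p) (K × K) := AddSubgroup.toZModSubmodule p W with hW'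
  have hlt : T' < ⊤ := by
    refine lt_top_iff_ne_top.2 fun h1 => hT ?_
    rw [eq_top_iff]
    intro x _
    have : x ∈ T' := by rw [h1]; trivial
    exact this
  obtain ⟨l, hl0, hl⟩ := Submodule.exists_le_ker_of_lt_top T' hlt
  have hl1 : ∃ u, l u ≠ 0 := by
    by_contra h1
    push Not at h1
    exact hl0 (LinearMap.ext h1)
  obtain ⟨u, hu⟩ := hl1
  let B : (K × K) →ₗ[ZMod p] (K × K) →ₗ[ZMod p] ZMod p :=
    LinearMap.mk₂ (ZMod p) (fun w v => l (w.1 * v.2 - w.2 * v.1))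
      (fun w w' v => by rw [← map_add]; congr 1; simp only [Prod.fst_add, Prod.snd_add]; ring)
      (fun c w v => by
        rw [← map_smul]; congr 1; simp only [Prod.smul_fst, Prod.smul_snd, smul_mul_assoc, smul_sub])
      (fun w v v' => by rw [← map_add]; congr 1; simp only [Prod.fst_add, Prod.snd_add]; ring)
      (fun c w v => by
        rw [← map_smul]; congr 1; simp only [Prod.smul_fst, Prod.smul_snd, mul_smul_comm, smul_sub])
  have hBinj : Function.Injective B := by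
    rw [injective_iff_map_eq_zero]
    intro w hw
    have h1 : ∀ v : K × K, l (w.1 * v.2 - w.2 * v.1) = 0 := fun v => by
      have h4 := LinearMap.congr_fun hw v
      exact h4
    by_contra hne
    have h6 : w.1 ≠ 0 ∨ w.2 ≠ 0 := by
      by_contra h7
      push Not at h7
      exact hne (Prod.ext h7.1 h7.2)
    rcases h6 with h6 | h6
    · have h7 := h1 (0, u / w.1)
      rw [mul_zero, sub_zero, mul_div_cancel₀ u h6] at h7
      exact hu h7
    · have h7 := h1 (-u / w.2, 0)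
      rw [mul_zero, zero_sub, mul_div_cancel₀ _ h6, neg_neg] at h7
      exact hu h7
  have hiso : W'.map B ≤ W'.dualAnnihilator := by
    rintro _ ⟨w, hw, rfl⟩
    rw [Submodule.mem_dualAnnihilator]
    intro v hv
    exact hl (h w hw v hv)
  have f1 : Module.finrank (ZMod p) (W'.map B) = Module.finrank (ZMod p) W' :=
    (Submodule.equivMapOfInjective B hBinj W').finrank_eq.symm
  have f2 : Module.finrank (ZMod p) (W'.map B) ≤ Module.finrank (ZMod p) W'.dualAnnihilator := Submodule.finrank_mono hiso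
  have f3 := Subspace.finrank_add_finrank_dualAnnihilator_eq W'
  have f4 : Module.finrank (ZMod p) (K × K) = Module.finrank (ZMod p) K + Module.finrank (ZMod p) K :=
    Module.finrank_prod
  have f5 : Module.finrank (ZMod p) W' ≤ Module.finrank (ZMod p) K := by omega
  have c1 : Nat.card W = Nat.card (ZMod p) ^ Module.finrank (ZMod p) W' :=
    Module.natCard_eq_pow_finrank (K := ZMod p) (V := W')
  rw [c1, Module.natCard_eq_pow_finrank (K := ZMod p) (V := K)]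
  exact Nat.pow_le_pow_right Nat.card_pos f5

end bound

section line

variable {K : Type u} [Field K]

/-- `{(0,0,0,0,e,κe)}` -/
def Yk (k : K) : Subgroup (GU K) where
  carrier := {g | g ∈ Z2 K ∧ g.f = k * g.e}
  one_mem' := ⟨(Z2 K).one_mem, by rw [GU.one_f, GU.one_e, mul_zero]⟩
  mul_mem' := by
    rintro x y ⟨hx, hx'⟩ ⟨hy, hy'⟩
    refine ⟨(Z2 K).mul_mem hx hy, ?_⟩
    obtain ⟨x1, x2, x3, x4⟩ := hx
    obtain ⟨y1, y2, y3, y4⟩ := hy
    rw [GU.mul_f, GU.mul_e]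
    simp only [x2, x3, x4, y1, y2, y3, hx', hy']
    ring
  inv_mem' := by
    rintro x ⟨hx, hx'⟩
    refine ⟨(Z2 K).inv_mem hx, ?_⟩
    obtain ⟨x1, x2, x3, x4⟩ := hx
    rw [GU.inv_f, GU.inv_e]
    simp only [x1, x2, x3, x4, hx']
    ring

/-- `{(a,0,κa,d,e,f)}` -/
def Rk (k : K) : Subgroup (GU K) where
  carrier := {g | g.b = 0 ∧ g.c = k * g.a}
  one_mem' := ⟨rfl, by rw [GU.one_c, GU.one_a, mul_zero]⟩
  mul_mem' := by
    rintro x y ⟨hx, hx'⟩ ⟨hy, hy'⟩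
    refine ⟨by rw [GU.mul_b, hx, hy, add_zero], ?_⟩
    rw [GU.mul_c, GU.mul_a, hx, hx', hy']
    ring
  inv_mem' := by
    rintro x ⟨hx, hx'⟩
    refine ⟨by rw [GU.inv_b, hx, neg_zero], ?_⟩
    rw [GU.inv_c, GU.inv_a, hx, hx']
    ring

theorem Yk_le (k : K) : Yk k ≤ Z2 K := fun _ h => h.1

theorem Rk_le (k : K) : Rk k ≤ Qb K := fun _ h => h.1

theorem Z3_le_Rk (k : K) : Z3 K ≤ Rk k := fun g h => ⟨h.2.1, by rw [h.1, h.2.2, mul_zero]⟩

theorem com_Rk (k : K) : Com (Rk k) (Rk k) (Yk k) := by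
  rintro x ⟨xb, xc⟩ y ⟨yb, yc⟩
  refine ⟨⟨cm_a _ _, cm_b _ _, ?_, ?_⟩, ?_⟩
  · rw [cm_c, xb, yb]; ring
  · rw [cm_d, xb, yb, xc, yc]; ring
  · rw [cm_f, cm_e, xb, yb, xc, yc]; ring

theorem pow_Rk {k : K} {x : GU K} (hx : x ∈ Rk k) (m : ℕ) :
    (x ^ m).a = m * x.a ∧ (x ^ m).b = 0 ∧ (x ^ m).c = m * (k * x.a) ∧
      (x ^ m).d = m * x.d + m * (m - 1) * (k * x.a ^ 2) := by
  obtain ⟨h1, h2⟩ := hx
  induction m with
  | zero => simp
  | succ m ih =>
    obtain ⟨i1, i2, i3, i4⟩ := ih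
    rw [pow_succ]
    refine ⟨?_, ?_, ?_, ?_⟩
    · rw [GU.mul_a, i1]; push_cast; ring
    · rw [GU.mul_b, i2, h1, add_zero]
    · rw [GU.mul_c, i3, i2, h2]; push_cast; ring
    · rw [GU.mul_d, i4, i3, i2]; push_cast; ring

theorem pow_Qb {x : GU K} (hx : x ∈ Qb K) (m : ℕ) :
    (x ^ m).a = m * x.a ∧ (x ^ m).b = 0 ∧ (x ^ m).c = m * x.c := by
  have h1 : x.b = 0 := hx
  induction m with
  | zero => simp
  | succ m ih =>
    obtain ⟨i1, i2, i3⟩ := ih
    rw [pow_succ]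
    refine ⟨?_, ?_, ?_⟩
    · rw [GU.mul_a, i1]; push_cast; ring
    · rw [GU.mul_b, i2, h1, add_zero]
    · rw [GU.mul_c, i3, i2]; push_cast; ring

/-- if `[X, E] ≤ E` then `X ≤ N_S(E)` -/
theorem le_normIn {E X : Subgroup (GU K)} (h : Com X E E) : X ≤ normalizerIn ⊤ E := by
  have hn : ∀ w ∈ X, ∀ e ∈ E, w * e * w⁻¹ ∈ E := by
    intro w hw e he'
    have h1 : w * e * w⁻¹ = (w * e * w⁻¹ * e⁻¹) * e := by group
    rw [h1]
    exact E.mul_mem (h w hw e he') he'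
  intro w hw
  refine Subgroup.mem_inf.2 ⟨trivial, ?_⟩
  rw [Subgroup.mem_normalizer_iff]
  intro e
  refine ⟨hn w hw e, fun h => ?_⟩
  have h1 := hn w⁻¹ (X.inv_mem hw) _ h
  have h4 : w⁻¹ * (w * e * w⁻¹) * w⁻¹⁻¹ = e := by group
  rwa [h4] at h1

/-- the case where the image of `E` in `Q_b/Z₃ = K²` is contained in a `K`-line -/
theorem b_line (hNeg : StNeg.{u}) (hDual : StDual.{u}) {p n : ℕ} (hG : HypG K p n) (h5 : 5 ≤ p)
    {E : Subgroup (GU K)} {Γ : Subgroup (MulAut E)} (he : Ess (⊤ : Subgroup (GU K)) E p Γ) (hZ3 : Z3 K ≤ E) {k : K}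
    (hER : E ≤ Rk k) {g0 : GU K} (hg0 : g0 ∈ E) (ha0 : g0.a ≠ 0) : False := by
  have h2 : (2 : K) ≠ 0 := by simpa using ne_zero_of hG (m := 2) (by norm_num) (by omega)
  have h3 : (3 : K) ≠ 0 := by simpa using ne_zero_of hG (m := 3) (by norm_num) (by omega)
  have hfinK := hG.fin
  have : Fact p.Prime := ⟨hG.pp⟩
  have hp0 : (p : K) = 0 := by
    have := hG.char
    exact CharP.cast_eq_zero K p
  have hpE : IsPGroup p E := he.pgr.of_injective (Subgroup.inclusion he.E_le) (Subgroup.inclusion_injective _)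
  -- `Y ≤ Φ(E)`
  have hYcomm : ∀ y ∈ Yk k, ∃ w ∈ Z3 K, y = g0 * w * g0⁻¹ * w⁻¹ := by
    rintro y ⟨⟨y1, y2, y3, y4⟩, y5⟩
    obtain ⟨gb, gc⟩ := hER hg0
    refine ⟨x4 (-(y.e / (3 * g0.a))), x4_mem _, ?_⟩
    ext
    · rw [cm_a, y1]
    · rw [cm_b, y2]
    · rw [cm_c, y3]; simp only [x4]; rw [gb]; ring
    · rw [cm_d, y4]; simp only [x4]; rw [gb]; ring
    · rw [cm_e]; simp only [x4]; rw [gb]; field_simp; ring
    · rw [cm_f, y5]; simp only [x4]; rw [gb, gc]; field_simp; ring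
  have hYΦ : Yk k ≤ (frattini E).map E.subtype := by
    intro y hy
    obtain ⟨w, hw, rfl⟩ := hYcomm y hy
    exact ⟨_, Cfsg.Agent.Lib.FrattiniPGroup.commutator_mem_frattini (p := p) hpE (⟨g0, hg0⟩ : E) ⟨w, hZ3 hw⟩, rfl⟩
  have hYE : Yk k ≤ E := (Yk_le k).trans (Z2_le_Z3.trans hZ3)
  -- `E = R`
  have hRE : Rk k ≤ E := by
    have h1 := hDual he ⊥ (Rk k) (le_normIn fun x hx y hy => hYE (com_Rk k x hx y (hER hy))) bot_le
      (fun x hx y hy => by rw [bot_sup_eq]; exact hYΦ (com_Rk k x hx y (hER hy)))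
    rw [bot_sup_eq, Subgroup.relIndex_self] at h1
    have h4 : E.relIndex (Rk k) ≠ 0 := Subgroup.index_ne_zero_of_finite
    exact Subgroup.relIndex_eq_one.1 (by omega)
  have hEeq : E = Rk k := le_antisymm hER hRE
  have hQN : Qb K ≤ normalizerIn ⊤ E :=
    le_normIn fun x hx y hy => hZ3 (com_Qb x hx y (Rk_le k (hER hy)))
  have hNQ' : ∀ x : GU K, x * g0 * x⁻¹ ∈ E → x ∈ Qb K := by
    intro x h1
    obtain ⟨m1, m2⟩ := hER h1
    obtain ⟨gb, gc⟩ := hER hg0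
    rw [cj_c, cj_a, gb, gc] at m2
    have m3 : x.b * g0.a = 0 := by linear_combination m2
    exact (mul_eq_zero.1 m3).resolve_right ha0
  have hNQ : normalizerIn ⊤ E ≤ Qb K := fun x hx =>
    hNQ' x ((Subgroup.mem_normalizer_iff.1 (Subgroup.mem_inf.1 hx).2 g0).1 hg0)
  have hQE : ¬ Qb K ≤ E := by
    intro h
    have h1 := (hER (h (show x3 1 ∈ Qb K from rfl))).2
    simp only [x3, mul_zero] at h1
    exact one_ne_zero h1
  -- invariant subgroups
  have iE := inv_self Γ (E := E)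
  have i2 : Inv Γ (Z2 K) := by
    refine inv_cent iE iE (inv_bot Γ) fun y => ⟨fun hy => ?_, fun hy => ?_⟩
    · exact ⟨hZ3 (Z2_le_Z3 hy), fun b hb => cm_one.2 (comm_Qb_Z2 (Rk_le k (hER hb)) hy).symm⟩
    · obtain ⟨hyE, hc⟩ := hy
      obtain ⟨yb, yc⟩ := hER hyE
      have e1 := (Subgroup.mem_bot.1 (hc (x4 1) (hZ3 (x4_mem 1))))
      have e2 := congrArg GU.e e1
      rw [cm_e, GU.one_e, yb] at e2
      simp only [x4] at e2
      have ya : y.a = 0 := by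
        apply mul_left_cancel₀ h3
        linear_combination -e2
      have e3 := Subgroup.mem_bot.1 (hc g0 hg0)
      have e4 := congrArg GU.e e3
      obtain ⟨gb, gc⟩ := hER hg0
      rw [ya, mul_zero] at yc
      rw [cm_e, GU.one_e, ya, yb, yc] at e4
      have yd : y.d = 0 := by
        apply mul_left_cancel₀ (mul_ne_zero h3 ha0)
        linear_combination e4
      exact ⟨ya, yb, yc, yd⟩
  have iY : Inv Γ (Yk k) := by
    refine ⟨hYE, fun γ hγ e he' => ?_⟩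
    obtain ⟨w, hw, hew⟩ := hYcomm _ he'
    have h1 : e = (⟨g0, hg0⟩ : E) * ⟨w, hZ3 hw⟩ * (⟨g0, hg0⟩ : E)⁻¹ * (⟨w, hZ3 hw⟩ : E)⁻¹ := Subtype.ext hew
    rw [h1, map_mul, map_mul, map_mul, map_inv, map_inv]
    exact com_Rk k _ (hER (γ ⟨g0, hg0⟩).2) _ (hER (γ ⟨w, hZ3 hw⟩).2)
  -- indices
  set q := Nat.card K with hq
  have hq0 : 0 < q := Nat.card_pos
  have r23 : (Z2 K).relIndex (Z3 K) = q := relIndex_eq Z2_le_Z3 card_Z2 card_Z3 (by ring) (by positivity)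
  have r3Q : (Z3 K).relIndex (Qb K) = q ^ 2 := relIndex_eq Z3_le_Qb card_Z3 card_Qb (by ring) (by positivity)
  have hsurj : ∀ t : K, ∃ g ∈ E, g.a = t := fun t => ⟨⟨t, 0, k * t, 0, 0, 0⟩, hRE ⟨rfl, rfl⟩, rfl⟩
  have hker : (homA E).ker = (Z3 K).subgroupOf E := by
    ext g
    rw [Subgroup.mem_subgroupOf]
    constructor
    · intro h
      have h1 : (g : GU K).a = 0 := h
      obtain ⟨gb, gc⟩ := hER g.2
      exact ⟨h1, gb, by rw [gc, h1, mul_zero]⟩
    · intro h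
      exact h.1
  have r3E : (Z3 K).relIndex E = q := by
    rw [Subgroup.relIndex, ← hker, Subgroup.index_ker]
    have h1 : (homA E).range = ⊤ := by
      rw [MonoidHom.range_eq_top]
      intro t
      obtain ⟨g, hg, hgt⟩ := hsurj t.toAdd
      exact ⟨⟨g, hg⟩, hgt⟩
    rw [h1, Subgroup.card_top]
    rfl
  have rEQ : E.relIndex (Qb K) = q := by
    have h1 := Subgroup.relIndex_mul_relIndex _ _ _ hZ3 (hER.trans (Rk_le k))
    rw [r3E, r3Q, sq] at h1
    exact Nat.eq_of_mul_eq_mul_left hq0 h1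
  have r2E : (Z2 K).relIndex E = q ^ 2 := by
    rw [← Subgroup.relIndex_mul_relIndex _ _ _ Z2_le_Z3 hZ3, r23, r3E, sq]
  -- `StNeg`
  have hp2 : p ≠ 2 := by omega
  set M := hull Γ (Z3 K) with hM
  have hMi : Inv Γ M := H104.PU.inv_hull _
  have hZ3M : Z3 K ≤ M := H104.PU.le_hull hZ3
  have hZ2M : Z2 K ≤ M := Z2_le_Z3.trans hZ3M
  have hME : M ≤ E := hMi.1
  obtain ⟨D, hDi, hD1, hDM, -, hDr, γ, hγc, -, hγn, hγm, -⟩ := hNeg he hp2 (Z2 K) M (Z3 K) (Qb K) i2 hMi hZ2M hZ3M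
    (fun x hx y hy => Yk_le k (com_Rk k x (hER hx) y (hER (hME hy))))
    (fun m hm => by
      obtain ⟨k1, k2, k3, k4⟩ := pow_Rk (hER (hME hm)) p
      rw [hp0] at k1 k3 k4
      refine ⟨?_, k2, ?_, ?_⟩
      · rw [k1, zero_mul]
      · rw [k3, zero_mul]
      · rw [k4]; ring)
    (by rw [sup_eq_left.2 hZ2M]) (fun x hx y hy => com_Qb_Z3 x (hNQ hx) y hy) hQN hQE
    (fun x hx y hy => hZ3 (com_Qb x hx y hy))
    (fun x hx => by
      obtain ⟨k1, k2, k3⟩ := pow_Qb hx p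
      rw [hp0] at k1 k3
      exact hZ3 ⟨by rw [k1, zero_mul], k2, by rw [k3, zero_mul]⟩)
    (fun x hx y hy => hZ3M (com_Qb x hx y (Rk_le k (hER hy))))
    (fun x hx y hy => comm_Qb_Z2 hx hy)
    (by
      have h1 : Z3 K ≤ cmod (Qb K) M (Z2 K) := fun z hz =>
        Subgroup.subset_closure ⟨hZ3M hz, fun a ha' => com_Qb_Z3 a ha' z hz⟩
      have h4 : (cmod (Qb K) M (Z2 K)).relIndex M ≤ (Z3 K).relIndex M :=
        Subgroup.relIndex_le_of_le_left h1 Subgroup.index_ne_zero_of_finite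
      have h6 : (Z3 K).relIndex M ≤ (Z3 K).relIndex E :=
        Subgroup.relIndex_le_of_le_right hME Subgroup.index_ne_zero_of_finite
      rw [rEQ, ← r3E]
      exact h4.trans h6)
  rw [rEQ] at hDr
  have c1 : (Z2 K).relIndex D * (D.relIndex M * M.relIndex E) = q ^ 2 := by
    rw [Subgroup.relIndex_mul_relIndex _ _ _ hDM hME, Subgroup.relIndex_mul_relIndex _ _ _ hD1 (hDM.trans hME), r2E]
  rw [hDr] at c1
  have c2 : (Z2 K).relIndex D * M.relIndex E = 1 := by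
    have h1 : q ^ 2 * ((Z2 K).relIndex D * M.relIndex E) = q ^ 2 * 1 := by rw [mul_one]; linarith [c1]
    exact Nat.eq_of_mul_eq_mul_left (by positivity) h1
  have hEM : E ≤ M := Subgroup.relIndex_eq_one.1 (Nat.eq_one_of_mul_eq_one_left c2)
  have hDZ : D ≤ Z2 K := Subgroup.relIndex_eq_one.1 (Nat.eq_one_of_mul_eq_one_right c2)
  have hneg : ∀ g : E, ((γ g * g : E) : GU K) ∈ Z2 K := fun g => hDZ (hγm g (hEM g.2))
  have hγΓ : γ ∈ Γ := by
    have h1 : Subgroup.closure {x : MulAut E | ∃ g ∈ Γ, ∃ y ∈ autInducedBy ⊤ E, x = g * y * g⁻¹} ≤ Γ := by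
      rw [Subgroup.closure_le]
      rintro _ ⟨g, hg, z, hz, rfl⟩
      exact Γ.mul_mem (Γ.mul_mem hg (he.indu hz)) (Γ.inv_mem hg)
    exact h1 hγc
  -- `γ` is trivial on `Z₂`
  have hγ2 : ∀ z : E, (z : GU K) ∈ Z2 K → γ z = z := by
    refine Subgroup.closure_induction (p := fun δ _ => ∀ z : E, (z : GU K) ∈ Z2 K → δ z = z) ?_ ?_ ?_ ?_ hγc
    · rintro _ ⟨g, hg, c, hc, rfl⟩ z hz
      have h1 : ((g⁻¹ z : E) : GU K) ∈ Z2 K := i2.2 g⁻¹ (Γ.inv_mem hg) z hz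
      have h4 : c (g⁻¹ z) = g⁻¹ z := by
        refine Subgroup.closure_induction (p := fun δ _ => δ (g⁻¹ z) = g⁻¹ z) ?_ ?_ ?_ ?_ hc
        · rintro δ ⟨x, -, hx⟩
          have h6 : x ∈ Qb K := hNQ' x (by rw [← hx ⟨g0, hg0⟩]; exact (δ ⟨g0, hg0⟩).2)
          apply Subtype.ext
          rw [hx, comm_Qb_Z2 h6 h1, mul_inv_cancel_right]
        · rfl
        · intro δ ε _ _ h1 h2
          rw [MulAut.mul_apply, h2, h1]
        · intro δ _ h1
          conv_lhs => rw [← h1]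
          exact MulAut.inv_apply_self _ _ _
      rw [MulAut.mul_apply, MulAut.mul_apply, h4]
      exact MulAut.apply_inv_self _ _ _
    · intro z _
      rfl
    · intro δ ε _ _ h1 h2 z hz
      rw [MulAut.mul_apply, h2 z hz, h1 z hz]
    · intro δ _ h1 z hz
      conv_lhs => rw [← h1 z hz]
      exact MulAut.inv_apply_self _ _ _
  -- the element inverted by `γ`
  have hcent : ∀ z : E, (z : GU K) ∈ Z2 K → ∀ e : E, z * e = e * z := by
    intro z hz e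
    apply Subtype.ext
    exact (comm_Qb_Z2 (Rk_le k (hER e.2)) hz).symm
  have hm : (⟨1, 0, k, 0, 0, 0⟩ : GU K) ∈ E := hRE ⟨rfl, (mul_one k).symm⟩
  set m : E := ⟨⟨1, 0, k, 0, 0, 0⟩, hm⟩ with hmdef
  have hγm' : γ m = (γ m * m) * m⁻¹ := by group
  have hγγ : γ (γ m) = m := by
    have h1 : γ (γ m) = γ (γ m * m) * (γ m)⁻¹ := by
      conv_lhs => rw [hγm']
      rw [map_mul γ (γ m * m), map_inv]
    rw [h1, hγ2 _ (hneg m)]
    have h4 := hcent _ (hneg m) (γ m)⁻¹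
    rw [h4]
    group
  set v : E := m * (γ m)⁻¹ with hv
  have hγv : γ v = v⁻¹ := by
    rw [hv, map_mul, map_inv, hγγ]
    group
  have hva : (v : GU K).a = 2 := by
    have h1 := (hneg m).1
    have h4 : ((m : E) : GU K).a = 1 := rfl
    rw [Subgroup.coe_mul, GU.mul_a, h4] at h1
    rw [hv, Subgroup.coe_mul, Subgroup.coe_inv, GU.mul_a, GU.inv_a, h4]
    linear_combination -h1
  -- conjugation by `x₃(1)`
  set x : GU K := x3 1 with hx
  have hxQ : x ∈ Qb K := rfl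
  have hxN := (Subgroup.mem_inf.1 (hQN hxQ)).2
  set c : MulAut E := E.normalizerMonoidHom ⟨x, hxN⟩ with hc
  have hcx : ∀ e : E, ((c e : E) : GU K) = x * e * x⁻¹ := fun _ => rfl
  have hcm : c ∈ autInducedBy (⊤ : Subgroup (GU K)) E := Subgroup.subset_closure ⟨x, trivial, hcx⟩
  obtain ⟨t, ht⟩ := hγn c hcm
  have hγc' : ∀ e : E, ∃ y ∈ Yk k, ((γ (c e) : E) : GU K) = y * (x * ((γ e : E) : GU K) * x⁻¹) := by
    intro e
    have h1 : γ (c e) = t * c (γ e) * t⁻¹ := by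
      have h4 : γ * c = MulAut.conj t * c * γ := by
        rw [ht]
        group
      have h6 := DFunLike.congr_fun h4 e
      exact h6
    refine ⟨(t : GU K) * (c (γ e) : E) * (t : GU K)⁻¹ * ((c (γ e) : E) : GU K)⁻¹,
      com_Rk k _ (hER t.2) _ (hER (c (γ e)).2), ?_⟩
    rw [h1, ← hcx, Subgroup.coe_mul, Subgroup.coe_mul, Subgroup.coe_inv]
    group
  obtain ⟨y1, hy1, hy1'⟩ := hγc' v
  set w : E := c v * v⁻¹ with hw
  have hwx : (w : GU K) = x * v * x⁻¹ * (v : GU K)⁻¹ := rfl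
  have hw3 : (w : GU K) ∈ Z3 K := by
    rw [hwx]
    exact com_Qb x hxQ _ (Rk_le k (hER v.2))
  have hwd : (w : GU K).d = 4 := by
    rw [hwx, cm_d, hva, (hER v.2).1]
    simp only [hx, x3]
    ring
  have hγw : ((γ w * w : E) : GU K) ∈ Yk k := by
    have h1 : ((γ w * w : E) : GU K) = y1 * ((v : GU K)⁻¹ * (w : GU K)⁻¹ * ((v : GU K)⁻¹)⁻¹ * ((w : GU K)⁻¹)⁻¹) := by
      have h4 : γ w = γ (c v) * (γ v)⁻¹ := by rw [hw, map_mul, map_inv]
      have h6 : ((γ w : E) : GU K) = y1 * (x * (v : GU K)⁻¹ * x⁻¹) * v := by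
        rw [h4, Subgroup.coe_mul, hy1', hγv, inv_inv, Subgroup.coe_inv]
      rw [Subgroup.coe_mul, h6, hwx]
      group
    rw [h1]
    exact (Yk k).mul_mem hy1 (com_Rk k _ ((Rk k).inv_mem (hER v.2)) _ ((Rk k).inv_mem (hER w.2)))
  obtain ⟨y2, hy2, hy2'⟩ := hγc' w
  set u : E := c w * w⁻¹ with hu
  have hux : (u : GU K) = x * w * x⁻¹ * (w : GU K)⁻¹ := rfl
  have hu2 : (u : GU K) ∈ Z2 K := by
    rw [hux]
    exact com_Qb_Z3 x hxQ _ hw3
  have hγu := hγ2 u hu2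
  have hyy : (u : GU K) * u ∈ Yk k := by
    set y3 : GU K := ((γ w * w : E) : GU K) with hy3
    have h1 : ((γ w : E) : GU K) = y3 * (w : GU K)⁻¹ := by
      rw [hy3, Subgroup.coe_mul]
      group
    have h4 : x * y3 = y3 * x := comm_Qb_Z2 hxQ (Yk_le k hγw)
    have h6 : (w : GU K) * (u : GU K) = u * w := comm_Qb_Z2 (Rk_le k (hER w.2)) hu2
    have h7 : ((γ u : E) : GU K) = y2 * (u : GU K)⁻¹ := by
      have h8 : γ u = γ (c w) * (γ w)⁻¹ := by rw [hu, map_mul, map_inv]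
      rw [h8, Subgroup.coe_mul, hy2', Subgroup.coe_inv, h1]
      have h9 : x * (y3 * (w : GU K)⁻¹) * x⁻¹ * (y3 * (w : GU K)⁻¹)⁻¹ =
          y3 * (x * (w : GU K)⁻¹ * x⁻¹ * w) * y3⁻¹ := by
        rw [← mul_assoc x, h4]
        group
      have h10 : x * (w : GU K)⁻¹ * x⁻¹ * w = (u : GU K)⁻¹ := by
        have h11 : x * (w : GU K)⁻¹ * x⁻¹ * w = (w : GU K)⁻¹ * (u : GU K)⁻¹ * w := by
          rw [hux]
          group
        rw [h11, ← mul_inv_rev, ← h6, mul_inv_rev, inv_mul_cancel_right]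
      have h12 : y3 * (u : GU K)⁻¹ = (u : GU K)⁻¹ * y3 :=
        comm_Qb_Z2 (Z2_le_Qb (Yk_le k hγw)) ((Z2 K).inv_mem hu2)
      rw [mul_assoc y2, h9, h10, h12, mul_inv_cancel_right]
    rw [hγu] at h7
    have h8 : (u : GU K) * u = y2 := by
      have h9 : (u : GU K) * u = y2 * (u : GU K)⁻¹ * u := by rw [← h7]
      rw [h9, inv_mul_cancel_right]
    rw [h8]
    exact hy2
  have e1 := hyy.2
  rw [GU.mul_f, GU.mul_e] at e1
  obtain ⟨u1, u2, u3, u4⟩ := hu2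
  have ue : (u : GU K).e = 0 := by
    rw [hux, cm_e, hw3.1, hw3.2.1]
    simp only [hx, x3]
    ring
  have uf : (u : GU K).f = -12 := by
    rw [hux, cm_f, hw3.1, hw3.2.1, hw3.2.2, hwd]
    simp only [hx, x3]
    ring
  rw [ue, uf, u1, u2, u3, u4] at e1
  have e2 : (2 * 2 * 2 * 3 : K) = 0 := by linear_combination -e1
  exact (mul_ne_zero (mul_ne_zero (mul_ne_zero h2 h2) h2) h3) e2

end line

/-- the case where the image of `E` in `Q_b/Z₃ = K²` spans (helper647: `H647/GT/E5bM.lean`) -/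
def StE5bM : Prop :=
  ∀ {K : Type u} [Field K] {p n : ℕ}, HypG K p n → 5 ≤ p →
    ∀ {E : Subgroup (GU K)} {Γ : Subgroup (MulAut E)}, Ess (⊤ : Subgroup (GU K)) E p Γ → Z3 K ≤ E → E ≤ Qb K →
    (∃ x ∈ E, ∃ y ∈ E, x.a * y.c - x.c * y.a ≠ 0) → E = Qb K

/-- **(E5b)** -/
theorem stE5b_of (hNeg : StNeg.{u}) (hDual : StDual.{u}) (hM : StE5bM.{u}) : StE5b.{u} := by
  intro K _ p n hG h5 E Γ he hZ3 hb ha
  by_cases h : ∃ x ∈ E, ∃ y ∈ E, x.a * y.c - x.c * y.a ≠ 0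
  · exact hM hG h5 he hZ3 hb h
  · push Not at h
    obtain ⟨g0, hg0, ha0⟩ := SetLike.not_le_iff_exists.1 ha
    have ha0' : g0.a ≠ 0 := ha0
    refine (b_line hNeg hDual hG h5 he hZ3 (k := g0.c / g0.a) (fun g hg => ⟨hb hg, ?_⟩) hg0 ha0').elim
    have h1 := h g0 hg0 g hg
    rw [div_mul_eq_mul_div, eq_div_iff ha0']
    linear_combination h1

end Cfsg.Agent.H15.GT
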