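import Cfsg.Agent.H802.FusEss

/-!
# Properties of subgroups preserved by a fusion system (helper15)

`prop_of_conj`: let `PP` be a property of subgroups of `G0` preserved by all automorphisms of `G0`; if no subgroup of an
essential subgroup has `PP`, then every `F`-conjugate of a subgroup with `PP` has `PP`.
-/

set_option autoImplicit false

namespace Cfsg.Agent.H15.GT

open Cfsg Cfsg.FusionSystem Cfsg.Agent.H802

section

variable {G0 : Type*} [Group G0]

/-- the maps of `F` preserving the property `PP` of subgroups -/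
def propSystem (F : FusionSystem (⊤ : Subgroup G0)) (PP : Subgroup G0 → Prop)
    (hinv : ∀ (α : MulAut G0) (R : Subgroup G0), PP R → PP (R.map α.toMonoidHom)) :
    FusionSystem (⊤ : Subgroup G0) where
  Hom P := {φ | φ ∈ F.Hom P ∧ ∀ (R : Subgroup G0) (hR : R ≤ P), PP R ↔ PP (φ.comp (Subgroup.inclusion hR)).range}
  le_of_mem h := F.le_of_mem h.1
  injective_of_mem h := F.injective_of_mem h.1
  conj_mem := by
    intro P g hP hg
    refine ⟨F.conj_mem hP hg, fun R hR => ?_⟩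
    have h1 : ((conjHom P g).comp (Subgroup.inclusion hR)).range = R.map (MulAut.conj g).toMonoidHom := by
      ext y
      constructor
      · rintro ⟨x, rfl⟩
        exact ⟨x, x.2, rfl⟩
      · rintro ⟨x, hx, rfl⟩
        exact ⟨⟨x, hx⟩, rfl⟩
    rw [h1]
    refine ⟨hinv _ R, fun h => ?_⟩
    have h2 := hinv (MulAut.conj g)⁻¹ _ h
    rw [Subgroup.map_map] at h2
    have h3 : (MulAut.conj g)⁻¹.toMonoidHom.comp (MulAut.conj g).toMonoidHom = MonoidHom.id G0 := by
      ext x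
      exact MulAut.inv_apply_self G0 (MulAut.conj g) x
    rwa [h3, Subgroup.map_id] at h2
  comp_mem := by
    rintro P P' φ ψ ⟨hφ, hφ'⟩ ⟨hψ, hψ'⟩ h
    refine ⟨F.comp_mem hφ hψ h, fun R hR => ?_⟩
    have hR'' : (φ.comp (Subgroup.inclusion hR)).range ≤ P' := by
      rintro _ ⟨x, rfl⟩
      exact h _
    rw [hφ' R hR, hψ' _ hR'']
    have h1 : (ψ.comp (Subgroup.inclusion hR'')).range = ((ψ.comp (φ.codRestrict P' h)).comp (Subgroup.inclusion hR)).range := by
      ext y
      constructor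
      · rintro ⟨⟨_, x, rfl⟩, rfl⟩
        exact ⟨x, rfl⟩
      · rintro ⟨x, rfl⟩
        exact ⟨⟨_, x, rfl⟩, rfl⟩
    rw [h1]
  inv_mem := by
    rintro P φ ⟨hφ, hφ'⟩
    obtain ⟨ψ, hψ, hψe⟩ := F.inv_mem hφ
    refine ⟨ψ, ⟨hψ, fun R hR => ?_⟩, hψe⟩
    have hR'' : (ψ.comp (Subgroup.inclusion hR)).range ≤ P := by
      rintro _ ⟨⟨x, hx⟩, rfl⟩
      obtain ⟨y, rfl⟩ := hR hx
      show ψ ⟨φ y, _⟩ ∈ P
      rw [hψe y]
      exact y.2
    rw [hφ' _ hR'']
    have key : ∀ x (hx : x ∈ R) (h1 : ψ (Subgroup.inclusion hR ⟨x, hx⟩) ∈ P),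
        φ ⟨ψ (Subgroup.inclusion hR ⟨x, hx⟩), h1⟩ = x := by
      intro x hx h1
      obtain ⟨y, rfl⟩ := hR hx
      have h2 : (⟨ψ (Subgroup.inclusion hR ⟨φ y, hx⟩), h1⟩ : P) = y := Subtype.ext (hψe y)
      rw [h2]
    have h1 : (φ.comp (Subgroup.inclusion hR'')).range = R := by
      ext y
      constructor
      · rintro ⟨⟨_, ⟨x, hx⟩, rfl⟩, rfl⟩
        have h2 := key x hx (hR'' ⟨⟨x, hx⟩, rfl⟩)
        show φ ⟨ψ (Subgroup.inclusion hR ⟨x, hx⟩), _⟩ ∈ R
        rw [h2]
        exact hx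
      · intro hy
        exact ⟨⟨_, ⟨y, hy⟩, rfl⟩, key y hy _⟩
    rw [h1]

/-- a property of subgroups invariant under all automorphisms, which no subgroup of an essential subgroup has, is
invariant under `F`-conjugation -/
theorem prop_of_conj {p : ℕ} [Fact p.Prime] [Finite G0] (hS : IsPGroup p (⊤ : Subgroup G0))
    {F : FusionSystem (⊤ : Subgroup G0)} (hF : F.IsSaturated p) (PP : Subgroup G0 → Prop)
    (hinv : ∀ (α : MulAut G0) (R : Subgroup G0), PP R → PP (R.map α.toMonoidHom))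
    (hess : ∀ E, F.IsEssential p E → ∀ R ≤ E, ¬ PP R) {R R' : Subgroup G0} (h : F.IsConj R R') (hR : PP R) : PP R' := by
  obtain ⟨φ, hφ, rfl⟩ := h
  have h1 := le_of_essential hS hF (propSystem F PP hinv) ?_ ?_ R hφ
  · have h2 := (h1.2 R le_rfl).1 hR
    have h3 : (φ.comp (Subgroup.inclusion (le_refl R))).range = φ.range := by
      ext y
      constructor
      · rintro ⟨x, rfl⟩
        exact ⟨_, rfl⟩
      · rintro ⟨x, rfl⟩
        exact ⟨x, rfl⟩
    rwa [h3] at h2
  · intro α hα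
    rw [mem_autGroup_iff _ le_rfl]
    refine ⟨(mem_autGroup_iff F le_rfl α).1 hα, fun P hP => ?_⟩
    set α' : MulAut G0 := MulAut.congr Subgroup.topEquiv α with hα'
    have h1 : (((⊤ : Subgroup G0).subtype.comp α.toMonoidHom).comp (Subgroup.inclusion hP)).range =
        P.map α'.toMonoidHom := by
      ext y
      constructor
      · rintro ⟨x, rfl⟩
        exact ⟨x, x.2, rfl⟩
      · rintro ⟨x, hx, rfl⟩
        exact ⟨⟨x, hx⟩, rfl⟩
    rw [h1]
    refine ⟨hinv _ P, fun h => ?_⟩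
    have h2 := hinv α'⁻¹ _ h
    rw [Subgroup.map_map] at h2
    have h3 : α'⁻¹.toMonoidHom.comp α'.toMonoidHom = MonoidHom.id G0 := by
      ext x
      exact MulAut.inv_apply_self G0 α' x
    rwa [h3, Subgroup.map_id] at h2
  · intro E hE _ α hα
    have hle : E ≤ (⊤ : Subgroup G0) := le_top
    rw [mem_autGroup_iff _ hle]
    refine ⟨(mem_autGroup_iff F hle α).1 hα, fun P hP => ?_⟩
    refine iff_of_false (hess E hE P hP) (hess E hE _ ?_)
    rintro _ ⟨x, rfl⟩
    exact (α _).2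

end

end Cfsg.Agent.H15.GT
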