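import Cfsg.Agent.H710.GT.EFiveC
import Cfsg.Agent.H294.G2.TI
import Cfsg.Agent.H104.PU.Gen
import Cfsg.Agent.H756.PU.AsmGen
import Cfsg.Agent.Lib.FrattiniPGroup
import Cfsg.Agent.H15.GT.PropConj

/-!
# S5211 (E5e): `p ≥ 5`, `Z₂ ≤ E`, `Z₃ ≰ E`, `E ≰ Q_a, Q_b`: impossible (helper15)
-/

set_option autoImplicit false

namespace Cfsg.Agent.H15.GT

open Cfsg Cfsg.FusionSystem Cfsg.Agent.H802 Cfsg.Agent.H779.G2 Cfsg.Agent.H756.PU Cfsg.Agent.H103.GT
open Cfsg.Agent.H710.GT (ne_zero_of exists_both inv_cent inv_self inv_bot cm_one)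

open scoped commutatorElement

universe u

variable {K : Type u} [Field K]

theorem pow_Z3 {x : GU K} (hx : x ∈ Z3 K) (k : ℕ) :
    (x ^ k).a = 0 ∧ (x ^ k).b = 0 ∧ (x ^ k).c = 0 ∧ (x ^ k).d = k * x.d ∧ (x ^ k).e = k * x.e := by
  obtain ⟨h1, h2, h3⟩ := hx
  induction k with
  | zero => simp
  | succ k ih =>
    obtain ⟨i1, i2, i3, i4, i5⟩ := ih
    rw [pow_succ]
    refine ⟨?_, ?_, ?_, ?_, ?_⟩
    · rw [GU.mul_a, i1, h1, add_zero]
    · rw [GU.mul_b, i2, h2, add_zero]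
    · rw [GU.mul_c, i3, i2, h3]; ring
    · rw [GU.mul_d, i4, i3, i2]; push_cast; ring
    · rw [GU.mul_e, i5, i4, i3, i2, h1]; push_cast; ring

/-- `Z₃` is characteristic in `S` -/
theorem ch_Z3 (h2 : (2 : K) ≠ 0) (h3 : (3 : K) ≠ 0) {s : K} (hs0 : s ≠ 0) (hs1 : s ≠ 1) : H294.G2.Ch (Z3 K) := by
  refine H294.G2.ch_center (H294.G2.ch_Z2 h3 hs0 hs1) fun x => ⟨fun hx g => H294.G2.com_Z3 g hx, fun hx => ?_⟩
  obtain ⟨ha, hb⟩ := H294.G2.ab_of (x := x) (hx _).2.2.1 (hx _).2.2.1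
  have e1 := (hx ⟨1, 0, 0, 0, 0, 0⟩).2.2.2
  rw [H294.G2.comm_d, ha, hb] at e1
  simp only at e1
  have k1 : 2 * x.c = 0 := by linear_combination -e1
  exact ⟨ha, hb, (mul_eq_zero.1 k1).resolve_left h2⟩

/-- an automorphism of `S` inverting the coordinates `a`, `b` fixes the coordinate `e` of the elements of `Z₂` -/
theorem e_of_neg (h2 : (2 : K) ≠ 0) (h3 : (3 : K) ≠ 0) {s : K} (hs0 : s ≠ 0) (hs1 : s ≠ 1) (α : MulAut (GU K))
    (ha : ∀ g : GU K, (α g).a = -g.a) (hb : ∀ g : GU K, (α g).b = -g.b) {w : GU K} (hw : w ∈ Z2 K) :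
    (α w).e = w.e := by
  have c2 := H294.G2.ch_Z2 h3 hs0 hs1
  have c3 := ch_Z3 h2 h3 hs0 hs1
  have c1 := H294.G2.ch_Z1 h3
  -- `c` on `Z₄`
  have hc : ∀ w ∈ Z4 K, (α w).c = w.c := by
    intro w hw
    set g : GU K := x2 w.c with hg
    set h : GU K := x1 1 with hh
    have k1 : w = (g * h * g⁻¹ * h⁻¹) * ((g * h * g⁻¹ * h⁻¹)⁻¹ * w) := by group
    have k2 : (g * h * g⁻¹ * h⁻¹)⁻¹ * w ∈ Z3 K := by
      refine ⟨?_, ?_, ?_⟩
      · rw [GU.mul_a, GU.inv_a, cm_a, hw.1]; ring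
      · rw [GU.mul_b, GU.inv_b, cm_b, hw.2]; ring
      · rw [GU.mul_c, GU.inv_c, cm_c, cm_a, GU.inv_b, cm_b, hw.1]
        simp only [hg, hh, x1, x2]
        ring
    have k3 := c3 α _ k2
    have k4 : (α w).c = (α g * α h * (α g)⁻¹ * (α h)⁻¹).c := by
      conv_lhs => rw [k1]
      rw [map_mul, GU.mul_c, k3.1, k3.2.2, mul_zero, add_zero, add_zero, map_mul, map_mul, map_mul, map_inv, map_inv]
    rw [k4, cm_c, ha, hb, ha, hb]
    simp only [hg, hh, x1, x2]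
    ring
  -- `d` on `Z₃`
  have hd : ∀ w ∈ Z3 K, (α w).d = -w.d := by
    intro w hw
    set g : GU K := x1 1 with hg
    set h : GU K := x3 (-(w.d / 2)) with hh
    have k0 : g * h * g⁻¹ * h⁻¹ ∈ Z3 K := H294.G2.com_Z4 g (x3_mem _)
    have k1 : w = (g * h * g⁻¹ * h⁻¹) * ((g * h * g⁻¹ * h⁻¹)⁻¹ * w) := by group
    have kd : (g * h * g⁻¹ * h⁻¹).d = w.d := by
      rw [cm_d]
      simp only [hg, hh, x1, x3]
      field_simp
      ring
    have k2 : (g * h * g⁻¹ * h⁻¹)⁻¹ * w ∈ Z2 K := by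
      have k5 := (Z3 K).mul_mem ((Z3 K).inv_mem k0) hw
      refine ⟨k5.1, k5.2.1, k5.2.2, ?_⟩
      rw [GU.mul_d, GU.inv_d, GU.inv_c, GU.inv_b, kd, k0.1, k0.2.1, k0.2.2]; ring
    have k3 := c2 α _ k2
    have k6 := c3 α _ k0
    have k4 : (α w).d = (α g * α h * (α g)⁻¹ * (α h)⁻¹).d := by
      conv_lhs => rw [k1]
      rw [map_mul, GU.mul_d, k3.1, k3.2.2.2, mul_zero, add_zero, map_mul, map_mul, map_mul, map_inv, map_inv]
      ring
    have k7 : (α h).c = h.c := hc h (x3_mem _)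
    rw [k4, cm_d, ha, hb, ha, hb, k7]
    simp only [hg, hh, x1, x3]
    field_simp
    ring
  -- `e` on `Z₂`
  set g : GU K := x1 1 with hg
  set h : GU K := x4 (-(w.e / 3)) with hh
  have k0 : g * h * g⁻¹ * h⁻¹ ∈ Z2 K := H294.G2.com_Z3 g (x4_mem _)
  have k1 : w = (g * h * g⁻¹ * h⁻¹) * ((g * h * g⁻¹ * h⁻¹)⁻¹ * w) := by group
  have kd : (g * h * g⁻¹ * h⁻¹).e = w.e := by
    rw [cm_e]
    simp only [hg, hh, x1, x4]
    field_simp
    ring
  have k2 : (g * h * g⁻¹ * h⁻¹)⁻¹ * w ∈ Z1 K := by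
    have k5 := (Z2 K).mul_mem ((Z2 K).inv_mem k0) hw
    refine ⟨k5.1, k5.2.1, k5.2.2.1, k5.2.2.2, ?_⟩
    rw [GU.mul_e, GU.inv_e, GU.inv_c, GU.inv_b, GU.inv_d, kd, k0.1, k0.2.1, k0.2.2.1, k0.2.2.2, hw.1]; ring
  have k3 := c1 α _ k2
  have k8 := c3 α _ (x4_mem (K := K) (-(w.e / 3)))
  have k4 : (α w).e = (α g * α h * (α g)⁻¹ * (α h)⁻¹).e := by
    conv_lhs => rw [k1]
    rw [map_mul, GU.mul_e, k3.1, k3.2.2.2.2, map_mul, map_mul, map_mul, map_inv, map_inv]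
    ring
  have k7 : (α h).d = -h.d := hd h (x4_mem _)
  rw [k4, cm_e, ha, hb, ha, hb, k7, k8.2.2]
  simp only [hg, hh, x1, x4]
  field_simp
  ring

/-- the coordinate `a` on a subgroup -/
def homA (E : Subgroup (GU K)) : E →* Multiplicative K where
  toFun g := Multiplicative.ofAdd (g : GU K).a
  map_one' := rfl
  map_mul' _ _ := rfl

/-- **(E5e)** -/
theorem stE5e (hGrp : H779.G2.StGrp.{u}) (hEss : StEss.{u}) (hOver : StOver.{u}) (hTI : H779.G2.StTI.{u}) (hB : StBound'.{u})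
    (hNeg : StNeg.{u}) (hExt : StExt.{u}) (hNExt : StNExt.{u}) : StE5e.{u} := by
  intro K _ p n _ hG h5 F hF E hE hZ2 hZ3 hb ha
  have h2 : (2 : K) ≠ 0 := by simpa using ne_zero_of hG (m := 2) (by norm_num) (by omega)
  have h3 : (3 : K) ≠ 0 := by simpa using ne_zero_of hG (m := 3) (by norm_num) (by omega)
  have := hG.fin
  have hpn : p ≤ p ^ n := Nat.le_self_pow (Nat.one_le_iff_ne_zero.1 hG.hn) p
  have h2n : 2 < p ^ n := by omega
  obtain ⟨s, hs0, hs1⟩ := H294.G2.exists_ne hG h2n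
  have hS : IsPGroup p (⊤ : Subgroup (GU K)) := (hGrp hG).2.1
  have he : Ess (⊤ : Subgroup (GU K)) E p (F.autGroup E) := hEss F E hS hF hE
  set Γ := F.autGroup E with hΓ
  have hpE : IsPGroup p E := he.pgr.of_injective (Subgroup.inclusion he.E_le) (Subgroup.inclusion_injective _)
  obtain ⟨x, hx, xa, xb⟩ := exists_both hb ha
  have iE := inv_self Γ (E := E)
  have hZ1E : Z1 K ≤ E := Z1_le_Z2.trans hZ2
  -- the centre
  have i1 : Inv Γ (Z1 K) := by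
    refine inv_cent iE iE (inv_bot Γ) fun y => ⟨fun hy => ?_, fun hy => ?_⟩
    · exact ⟨hZ1E hy, fun b _ => cm_one.2 (comm_Z1 b hy).symm⟩
    · obtain ⟨hyE, hc⟩ := hy
      have hyb : y ∈ Qb K := cent_Z2.1 fun z hz => cm_one.1 (hc z (hZ2 hz))
      have yb : y.b = 0 := hyb
      have e1 := congrArg GU.c (Subgroup.mem_bot.1 (hc x hx))
      rw [cm_c, yb, GU.one_c] at e1
      have ya : y.a = 0 := by
        apply mul_left_cancel₀ xb
        linear_combination -e1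
      exact mem_Z1_of_comm h2 h3 xa xb ⟨ya, yb⟩ (cm_one.1 (hc x hx)).symm
  -- elements of the second centre in `Q_b`
  have key1 : ∀ u ∈ E, (∀ g ∈ E, u * g * u⁻¹ * g⁻¹ ∈ Z1 K) → u.b = 0 → u ∈ Z2 K := by
    intro y hy hc yb
    have e2 := mem_Z1.1 (hc x hx)
    rw [cm_a, cm_b, cm_c, cm_d, cm_e, yb] at e2
    obtain ⟨-, -, f1, f2, f3⟩ := e2
    have ya : y.a = 0 := by
      apply mul_left_cancel₀ xb
      linear_combination -f1
    rw [ya] at f2 f3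
    have yc : y.c = 0 := by
      apply mul_left_cancel₀ (mul_ne_zero h2 xa)
      linear_combination f2
    rw [yc] at f3
    have yd : y.d = 0 := by
      apply mul_left_cancel₀ (mul_ne_zero h3 xa)
      linear_combination f3
    exact ⟨ya, yb, yc, yd⟩
  by_cases hU : ∀ u ∈ E, (∀ g ∈ E, u * g * u⁻¹ * g⁻¹ ∈ Z1 K) → u.b = 0
  · have i2 : Inv Γ (Z2 K) := by
      refine inv_cent iE iE i1 fun y => ⟨fun hy => ?_, fun hy => ?_⟩
      · exact ⟨hZ2 hy, fun b _ => com_Z2_top y hy b trivial⟩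
      · exact key1 y hy.1 hy.2 (hU y hy.1 hy.2)
    apply hZ3
    refine H732.PU.stChain he (Z2 K) (Z2 K) (Z2 K) i2 i2 i2 le_rfl le_rfl (Z3 K) le_top ?_ ?_ ?_ ?_
    · exact fun y hy e _ => com_Z3_top y hy e trivial
    · exact fun y hy e _ => com_Z3_top y hy e trivial
    · exact fun y hy e _ => com_Z3_top y hy e trivial
    · exact fun y hy m hm => comm_Qb_Z2 (Z3_le_Qb hy) hm
  push Not at hU
  obtain ⟨y, hy, hyc, yb⟩ := hU
  have ya : y.a ≠ 0 := by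
    intro ya
    have e1 := (mem_Z1.1 (hyc x hx)).2.2.1
    rw [cm_c, ya] at e1
    have : y.b * x.a = 0 := by linear_combination e1
    exact (mul_ne_zero yb xa) this
  have hprop : ∀ g ∈ E, y.a * g.b = y.b * g.a := by
    intro g hg
    have e1 := (mem_Z1.1 (hyc g hg)).2.2.1
    rw [cm_c] at e1
    linear_combination -e1
  have hE4 : ∀ g ∈ E, g.a = 0 → g ∈ Z2 K := by
    intro g hg ga
    have gb : g.b = 0 := by
      have := hprop g hg
      rw [ga, mul_zero] at this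
      exact (mul_eq_zero.1 this).resolve_left ya
    have e2 := mem_Z1.1 (hyc g hg)
    rw [cm_a, cm_b, cm_c, cm_d, cm_e, ga, gb] at e2
    obtain ⟨-, -, -, f2, f3⟩ := e2
    have gc : g.c = 0 := by
      apply mul_left_cancel₀ (mul_ne_zero h2 ya)
      linear_combination -f2
    rw [gc] at f3
    have gd : g.d = 0 := by
      apply mul_left_cancel₀ (mul_ne_zero h3 ya)
      linear_combination -f3
    exact ⟨ga, gb, gc, gd⟩
  -- indices
  set q := Nat.card K with hq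
  have hq0 : 0 < q := Nat.card_pos
  have r12 : (Z1 K).relIndex (Z2 K) = q := relIndex_eq Z1_le_Z2 card_Z1 card_Z2 (by ring) hq0
  have r23 : (Z2 K).relIndex (Z3 K) = q := relIndex_eq Z2_le_Z3 card_Z2 card_Z3 (by ring) (by positivity)
  have hE3 : E ⊓ Z3 K = Z2 K :=
    le_antisymm (fun g hg => hE4 g hg.1 hg.2.1) (le_inf hZ2 Z2_le_Z3)
  have rE3 : E.relIndex (Z3 K) = q := by rw [← Subgroup.inf_relIndex_right, hE3, r23]
  have hker : (homA E).ker = (Z2 K).subgroupOf E := by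
    ext g
    rw [Subgroup.mem_subgroupOf]
    constructor
    · intro h
      exact hE4 g g.2 h
    · intro h
      exact h.1
  have r2E' : (Z2 K).relIndex E = Nat.card (homA E).range := by
    rw [Subgroup.relIndex, ← hker, Subgroup.index_ker]
  have r2E : (Z2 K).relIndex E ≤ q := by
    rw [r2E']
    exact Subgroup.card_le_card_group _
  have r1E : (Z1 K).relIndex E = q * (Z2 K).relIndex E := by
    rw [← r12, Subgroup.relIndex_mul_relIndex _ _ _ Z1_le_Z2 hZ2]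
  -- `Z₁ ≤ Φ(E)`
  have hΦ : (Z1 K).subgroupOf E ≤ frattini E := by
    intro z hz
    rw [Subgroup.mem_subgroupOf] at hz
    have h1 := Cfsg.Agent.Lib.FrattiniPGroup.commutator_mem_frattini (p := p) hpE (⟨x, hx⟩ : E)
      ⟨x5 ((z : GU K).f / x.b), hZ2 (x5_mem _)⟩
    have h4 : ⁅(⟨x, hx⟩ : E), (⟨x5 ((z : GU K).f / x.b), hZ2 (x5_mem _)⟩ : E)⁆ = z := by
      apply Subtype.ext
      show x * x5 ((z : GU K).f / x.b) * x⁻¹ * (x5 ((z : GU K).f / x.b))⁻¹ = z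
      obtain ⟨z1, z2, z3, z4, z5⟩ := hz
      ext
      · rw [cm_a, z1]
      · rw [cm_b, z2]
      · rw [cm_c, z3]; simp only [x5]; ring
      · rw [cm_d, z4]; simp only [x5]; ring
      · rw [cm_e, z5]; simp only [x5]; ring
      · rw [cm_f]; simp only [x5]; field_simp; ring
    rw [h4] at h1
    exact h1
  have b1 := hB he
  have hZ3N : Z3 K ≤ normalizerIn ⊤ E := by
    have hn : ∀ z ∈ Z3 K, ∀ e ∈ E, z * e * z⁻¹ ∈ E := by
      intro z hz e he'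
      have h1 : z * e * z⁻¹ = (z * e * z⁻¹ * e⁻¹) * e := by group
      rw [h1]
      exact E.mul_mem (hZ2 (com_Z3_top z hz e trivial)) he'
    intro z hz
    refine Subgroup.mem_inf.2 ⟨trivial, ?_⟩
    rw [Subgroup.mem_normalizer_iff]
    intro e
    refine ⟨hn z hz e, fun h => ?_⟩
    have h1 := hn z⁻¹ ((Z3 K).inv_mem hz) _ h
    have h4 : z⁻¹ * (z * e * z⁻¹) * z⁻¹⁻¹ = e := by group
    rwa [h4] at h1
  have b2 : q ≤ E.relIndex (normalizerIn ⊤ E) := by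
    rw [← rE3]
    exact Subgroup.relIndex_le_of_le_right hZ3N Subgroup.index_ne_zero_of_finite
  have b3 : (frattini E).index ≤ (Z1 K).relIndex E :=
    Nat.le_of_dvd (Nat.pos_of_ne_zero Subgroup.index_ne_zero_of_finite) (Subgroup.index_dvd_of_le hΦ)
  have b4 : q ^ 2 ≤ (Z1 K).relIndex E := (Nat.pow_le_pow_left b2 2).trans (b1.trans b3)
  have b5 : (Z2 K).relIndex E = q := by
    refine le_antisymm r2E ?_
    rw [r1E, sq] at b4
    exact Nat.le_of_mul_le_mul_left b4 hq0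
  have b6 : (Z1 K).relIndex E = q ^ 2 := by rw [r1E, b5, sq]
  -- the coordinate `a` is onto
  have hsurj : ∀ t : K, ∃ g ∈ E, g.a = t := by
    have h1 : (homA E).range = ⊤ := by
      apply Subgroup.eq_top_of_card_eq
      rw [← r2E', b5]
      rfl
    intro t
    have h4 : Multiplicative.ofAdd t ∈ (homA E).range := by rw [h1]; trivial
    obtain ⟨g, hg⟩ := h4
    exact ⟨g, g.2, hg⟩
  -- `StNeg`
  have hp2 : p ≠ 2 := by omega
  have comX : Com E (Z2 K) (Z1 K) := fun g _ z hz => com_top_Z2 g trivial z hz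
  have powX : ∀ z ∈ Z2 K, z ^ p ∈ Z1 K := by
    intro z hz
    obtain ⟨k1, k2, k3, k4, k5⟩ := pow_Z3 (Z2_le_Z3 hz) p
    have hp0 : (p : K) = 0 := by
      have := hG.char
      exact CharP.cast_eq_zero K p
    rw [hp0, zero_mul] at k4 k5
    exact ⟨k1, k2, k3, k4, k5⟩
  set M := hull Γ (Z2 K) with hM
  have hMi : Inv Γ M := H104.PU.inv_hull _
  have hZ2M : Z2 K ≤ M := H104.PU.le_hull hZ2
  have hZ1M : Z1 K ≤ M := Z1_le_Z2.trans hZ2M
  have hidx : (cmod (Z3 K) M (Z1 K)).relIndex M ≤ E.relIndex (Z3 K) := by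
    have h1 : Z2 K ≤ cmod (Z3 K) M (Z1 K) := by
      intro z hz
      refine Subgroup.subset_closure ⟨hZ2M hz, fun a ha' => ?_⟩
      exact com_top_Z2 a trivial z hz
    have h4 : (cmod (Z3 K) M (Z1 K)).relIndex M ≤ (Z2 K).relIndex M :=
      Subgroup.relIndex_le_of_le_left h1 Subgroup.index_ne_zero_of_finite
    have h6 : (Z2 K).relIndex M ≤ (Z2 K).relIndex E :=
      Subgroup.relIndex_le_of_le_right hMi.1 Subgroup.index_ne_zero_of_finite
    rw [rE3, ← b5]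
    exact h4.trans h6
  obtain ⟨D, hDi, hD1, hDM, -, hDr, γ, hγc, -, hγn, hγm, -⟩ := hNeg he hp2 (Z1 K) M (Z2 K) (Z3 K) i1 hMi hZ1M hZ2M
    (H104.PU.com_hull i1 comX) (H104.PU.pow_hull i1 comX powX) (by rw [sup_eq_left.2 hZ1M])
    (fun g _ z hz => com_top_Z2 g trivial z hz) hZ3N hZ3 (fun g hg z hz => by
      have h1 := comm_Z3 hg hz
      rw [cm_one.2 h1 |> Subgroup.mem_bot.1]
      exact E.one_mem)
    (fun z hz => by
      obtain ⟨k1, k2, k3, k4, k5⟩ := pow_Z3 hz p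
      have hp0 : (p : K) = 0 := by
        have := hG.char
        exact CharP.cast_eq_zero K p
      rw [hp0, zero_mul] at k4
      exact hZ2 ⟨k1, k2, k3, k4⟩)
    (fun g hg z _ => hZ2M (com_Z3_top g hg z trivial)) (fun g _ z hz => comm_Z1 g hz) hidx
  rw [rE3] at hDr
  have c1 : (Z1 K).relIndex D * (D.relIndex M * M.relIndex E) = q ^ 2 := by
    rw [Subgroup.relIndex_mul_relIndex _ _ _ hDM hMi.1, Subgroup.relIndex_mul_relIndex _ _ _ hD1 (hDM.trans hMi.1), b6]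
  rw [hDr] at c1
  have c2 : (Z1 K).relIndex D * M.relIndex E = 1 := by
    have h1 : q ^ 2 * ((Z1 K).relIndex D * M.relIndex E) = q ^ 2 * 1 := by rw [mul_one]; linarith [c1]
    exact Nat.eq_of_mul_eq_mul_left (by positivity) h1
  have hEM : E ≤ M := Subgroup.relIndex_eq_one.1 (Nat.eq_one_of_mul_eq_one_left c2)
  have hDZ : D ≤ Z1 K := Subgroup.relIndex_eq_one.1 (Nat.eq_one_of_mul_eq_one_right c2)
  have hneg : ∀ g : E, ((γ g * g : E) : GU K) ∈ Z1 K := fun g => hDZ (hγm g (hEM g.2))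
  have hγΓ : γ ∈ Γ := by
    have h1 : Subgroup.closure {x : MulAut E | ∃ g ∈ Γ, ∃ y ∈ autInducedBy ⊤ E, x = g * y * g⁻¹} ≤ Γ := by
      rw [Subgroup.closure_le]
      rintro _ ⟨g, hg, z, hz, rfl⟩
      exact Γ.mul_mem (Γ.mul_mem hg (he.indu hz)) (Γ.inv_mem hg)
    exact h1 hγc
  have hinn : Inn E ≤ autInducedBy (⊤ : Subgroup (GU K)) E := by
    rintro _ ⟨g, rfl⟩
    exact Subgroup.subset_closure ⟨g, trivial, fun z => rfl⟩
  have hγN : NormAut (⊤ : Subgroup (GU K)) γ := by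
    intro z hz
    have h1 := hinn (hγn z hz)
    have h4 : γ * z * γ⁻¹ = γ * z * γ⁻¹ * z⁻¹ * z := by group
    rw [h4]
    exact Subgroup.mul_mem _ h1 hz
  -- extension
  obtain ⟨δ1, hδ1, hδ1e⟩ := hNExt F hS hF E hE γ hγΓ hγN
  have c3 := ch_Z3 h2 h3 hs0 hs1
  have cQa := H294.G2.ch_Qa h3 hs0 hs1
  have cQb := H294.G2.ch_Qb h3 hs0 hs1
  have hEN : E ≤ normalizerIn ⊤ E := le_inf le_top Subgroup.le_normalizer
  have hnoess : ∀ E', F.IsEssential p E' → ∀ R ≤ E', ¬ (Z3 K ≤ R ∧ ¬ R ≤ Qa K ∧ ¬ R ≤ Qb K) := by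
    rintro E' hE' R hR ⟨m1, m2, m3⟩
    have he' : Ess (⊤ : Subgroup (GU K)) E' p (F.autGroup E') := hEss F E' hS hF hE'
    obtain ⟨l1, l2⟩ := Cfsg.Agent.H710.GT.stE5c hG h5 he' (m1.trans hR) (fun h => m3 (hR.trans h)) (fun h => m2 (hR.trans h))
    obtain ⟨hT, hC, -, hchar, -⟩ := hTI hG h2n (Qb K) (Or.inr rfl)
    have hn := top_le_normalizer_of_char (hchar (by omega))
    have l3 := hOver F (Qb K) E' hS hF hE' l1 hn hC (hT _ (autInducedBy_le_autGroup F le_top) (syl_of_normal hS hF hn)) l2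
    exact m3 (l3 ▸ hR)
  have hPN : Z3 K ≤ normalizerIn ⊤ E ∧ ¬ normalizerIn ⊤ E ≤ Qa K ∧ ¬ normalizerIn ⊤ E ≤ Qb K :=
    ⟨hZ3N, fun h => ha (hEN.trans h), fun h => hb (hEN.trans h)⟩
  have hPPinv : ∀ (α : MulAut (GU K)) (R : Subgroup (GU K)), (Z3 K ≤ R ∧ ¬ R ≤ Qa K ∧ ¬ R ≤ Qb K) →
      (Z3 K ≤ R.map α.toMonoidHom ∧ ¬ R.map α.toMonoidHom ≤ Qa K ∧ ¬ R.map α.toMonoidHom ≤ Qb K) := by
    rintro α R ⟨m1, m2, m3⟩
    refine ⟨?_, fun h => m2 fun g hg => ?_, fun h => m3 fun g hg => ?_⟩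
    · rw [← c3.map α]
      exact Subgroup.map_mono m1
    · have h1 := cQa α⁻¹ _ (h ⟨g, hg, rfl⟩)
      have h4 : α⁻¹ (α.toMonoidHom g) = g := MulAut.inv_apply_self _ α g
      rwa [h4] at h1
    · have h1 := cQb α⁻¹ _ (h ⟨g, hg, rfl⟩)
      have h4 : α⁻¹ (α.toMonoidHom g) = g := MulAut.inv_apply_self _ α g
      rwa [h4] at h1
  obtain ⟨δ2, hδ2, hδ2e⟩ := hExt F hS hF (normalizerIn ⊤ E) ⊤ le_top (by
      rintro E' hE' ⟨R', hc, hR'⟩
      exact absurd (prop_of_conj hS hF (fun R => Z3 K ≤ R ∧ ¬ R ≤ Qa K ∧ ¬ R ≤ Qb K) hPPinv hnoess hc hPN)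
        (hnoess E' hE' R' hR'))
    (fun α _ => Subgroup.map_top_of_surjective _ α.surjective) δ1 hδ1
  set α : MulAut (GU K) := MulAut.congr Subgroup.topEquiv δ2 with hα
  have hαE : ∀ g : E, α g = ((γ g : E) : GU K) := by
    intro g
    have h1 := hδ2e ⟨g, hEN g.2⟩ ⟨g, trivial⟩ rfl
    have h4 := hδ1e g ⟨g, hEN g.2⟩ rfl
    rw [← h4, ← h1]
    rfl
  have hEa : ∀ g ∈ E, (α g).a = -g.a := by
    intro g hg
    have h1 := (hneg ⟨g, hg⟩).1
    rw [Subgroup.coe_mul, ← hαE, GU.mul_a] at h1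
    exact eq_neg_of_add_eq_zero_left h1
  have hEb : ∀ g ∈ E, (α g).b = -g.b := by
    intro g hg
    have h1 := (hneg ⟨g, hg⟩).2.1
    rw [Subgroup.coe_mul, ← hαE, GU.mul_b] at h1
    exact eq_neg_of_add_eq_zero_left h1
  have hSa : ∀ g : GU K, (α g).a = -g.a := by
    intro g
    obtain ⟨w, hw, hwa⟩ := hsurj g.a
    have h1 : g * w⁻¹ ∈ Qa K := by rw [mem_Qa, GU.mul_a, GU.inv_a, hwa]; ring
    have h4 := mem_Qa.1 (cQa α _ h1)
    rw [map_mul, map_inv, GU.mul_a, GU.inv_a, hEa w hw, hwa] at h4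
    linear_combination h4
  have hSb : ∀ g : GU K, (α g).b = -g.b := by
    intro g
    obtain ⟨w, hw, hwa⟩ := hsurj (y.a / y.b * g.b)
    have hwb : w.b = g.b := by
      have h1 := hprop w hw
      rw [hwa] at h1
      apply mul_left_cancel₀ ya
      rw [h1]
      field_simp
    have h1 : g * w⁻¹ ∈ Qb K := by rw [mem_Qb, GU.mul_b, GU.inv_b, hwb]; ring
    have h4 := mem_Qb.1 (cQb α _ h1)
    rw [map_mul, map_inv, GU.mul_b, GU.inv_b, hEb w hw, hwb] at h4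
    linear_combination h4
  have f1 := e_of_neg h2 h3 hs0 hs1 α hSa hSb (x5_mem (K := K) 1)
  have f2 := hneg ⟨x5 1, hZ2 (x5_mem 1)⟩
  rw [Subgroup.coe_mul, ← hαE] at f2
  have f3 := f2.2.2.2.2
  have f4 : (α (x5 1)) ∈ Z2 K := H294.G2.ch_Z2 h3 hs0 hs1 α _ (x5_mem 1)
  rw [GU.mul_e] at f3
  have f5 : ((⟨x5 1, hZ2 (x5_mem 1)⟩ : E) : GU K) = x5 1 := rfl
  rw [f5, f1, f4.2.1, f4.2.2.1, f4.2.2.2] at f3
  simp only [x5] at f3
  apply h2
  linear_combination f3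

end Cfsg.Agent.H15.GT
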