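import Cfsg.Agent.H15.GT.EFiveE
import Cfsg.Agent.H771.GT.SemiOne

/-!
# S5211 (E5f): `p ≥ 5`, `Z₂ ≰ E`: `E ≤ Q_a` (helper15)
-/

set_option autoImplicit false

namespace Cfsg.Agent.H15.GT

open Cfsg Cfsg.FusionSystem Cfsg.Agent.H802 Cfsg.Agent.H779.G2 Cfsg.Agent.H756.PU Cfsg.Agent.H103.GT
open Cfsg.Agent.H710.GT (ne_zero_of exists_both inv_cent inv_self inv_bot cm_one)
open scoped commutatorElement

universe u

section aut

variable {K : Type u} [Field K]

/-- an automorphism of `S` acts on `S/Z₄` as `(c₁ τ, c₂ τ)` -/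
theorem exists_semi [Finite K] (h2 : (2 : K) ≠ 0) (h3 : (3 : K) ≠ 0) {s : K} (hs0 : s ≠ 0) (hs1 : s ≠ 1)
    (α : MulAut (GU K)) : ∃ (c1 c2 : K) (τ : K ≃+* K), c1 ≠ 0 ∧ c2 ≠ 0 ∧ (∀ g : GU K, (α g).a = c1 * τ g.a) ∧
      (∀ g : GU K, (α g).b = c2 * τ g.b) ∧ ∀ w ∈ Z4 K, (α w).c = c1 * c2 * τ w.c := by
  have cQa := H294.G2.ch_Qa h3 hs0 hs1
  have cQb := H294.G2.ch_Qb h3 hs0 hs1
  have cZ3 := ch_Z3 h2 h3 hs0 hs1
  have cZ4 := H294.G2.ch_Z4 h3 hs0 hs1
  set f : K → K := fun t => (α (x1 t)).a with hf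
  set h : K → K := fun t => (α (x2 t)).b with hh
  set k : K → K := fun t => (α (x3 t)).c with hk
  have ha : ∀ g : GU K, (α g).a = f g.a := by
    intro g
    have h1 : g * (x1 g.a)⁻¹ ∈ Qa K := by
      rw [mem_Qa, GU.mul_a, GU.inv_a]; simp only [x1]; ring
    have h4 := mem_Qa.1 (cQa α _ h1)
    rw [map_mul, map_inv, GU.mul_a, GU.inv_a] at h4
    show (α g).a = (α (x1 g.a)).a
    linear_combination h4
  have hb : ∀ g : GU K, (α g).b = h g.b := by
    intro g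
    have h1 : g * (x2 g.b)⁻¹ ∈ Qb K := by
      rw [mem_Qb, GU.mul_b, GU.inv_b]; simp only [x2]; ring
    have h4 := mem_Qb.1 (cQb α _ h1)
    rw [map_mul, map_inv, GU.mul_b, GU.inv_b] at h4
    show (α g).b = (α (x2 g.b)).b
    linear_combination h4
  have hc : ∀ w ∈ Z4 K, (α w).c = k w.c := by
    intro w hw
    have h1 : w * (x3 w.c)⁻¹ ∈ Z3 K := by
      refine ⟨?_, ?_, ?_⟩
      · rw [GU.mul_a, GU.inv_a, hw.1]; simp only [x3]; ring
      · rw [GU.mul_b, GU.inv_b, hw.2]; simp only [x3]; ring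
      · rw [GU.mul_c, GU.inv_c, GU.inv_a, hw.2]; simp only [x3]; ring
    have h4 := (cZ3 α _ h1).2.2
    have h5 := cZ4 α _ hw
    have h6 := cZ4 α _ (x3_mem (K := K) w.c)
    rw [map_mul, map_inv, GU.mul_c, GU.inv_c, GU.inv_a, h5.2, h6.1] at h4
    show (α w).c = (α (x3 w.c)).c
    linear_combination h4
  have hadd : ∀ s t, f (s + t) = f s + f t := by
    intro s t
    have h1 := ha (x1 s * x1 t)
    rw [map_mul, GU.mul_a, GU.mul_a] at h1
    exact h1.symm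
  have hkm : ∀ t s, k (t * s) = h t * f s := by
    intro t s
    have h1 := hc _ (H294.G2.com_top (x2 t) (x1 s))
    rw [cm_c, map_mul, map_mul, map_mul, map_inv, map_inv, cm_c, ha, hb, ha, hb] at h1
    have f0 : f 0 = 0 := by
      have := hadd 0 0
      rw [add_zero] at this
      linear_combination -this
    simp only [x1, x2] at h1
    rw [f0] at h1
    have e1 : (-0 * 0 + t * s : K) = t * s := by ring
    rw [e1] at h1
    linear_combination -h1
  have hc1 : f 1 ≠ 0 := by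
    intro h0
    have h1 : α (x1 1) ∈ Qa K := h0
    have h4 := cQa α⁻¹ _ h1
    rw [MulAut.inv_apply_self] at h4
    exact one_ne_zero (mem_Qa.1 h4)
  have hc2 : h 1 ≠ 0 := by
    intro h0
    have h1 : α (x2 1) ∈ Qb K := h0
    have h4 := cQb α⁻¹ _ h1
    rw [MulAut.inv_apply_self] at h4
    exact one_ne_zero (mem_Qb.1 h4)
  have hk1 : ∀ t, k t = h t * f 1 := fun t => by rw [← hkm, mul_one]
  have hk2 : ∀ t, k t = h 1 * f t := fun t => by rw [← hkm, one_mul]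
  let τ0 : K →+* K :=
    { toFun := fun t => f t / f 1
      map_one' := div_self hc1
      map_mul' := fun x y => by
        have e1 := hkm x y
        rw [hk2] at e1
        have e2 := hk1 x
        rw [hk2] at e2
        rw [div_mul_div_comm, div_eq_div_iff hc1 (mul_ne_zero hc1 hc1)]
        apply mul_left_cancel₀ hc2
        linear_combination f 1 * f 1 * e1 - f 1 * f y * e2
      map_zero' := by
        have f0 : f 0 = 0 := by
          have := hadd 0 0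
          rw [add_zero] at this
          linear_combination -this
        rw [f0, zero_div]
      map_add' := fun x y => by rw [hadd, add_div] }
  have hτ : Function.Bijective τ0 := Finite.injective_iff_bijective.1 τ0.injective
  have hτf : ∀ t, f t = f 1 * τ0 t := fun t => by
    show f t = f 1 * (f t / f 1)
    field_simp
  refine ⟨f 1, h 1, RingEquiv.ofBijective τ0 hτ, hc1, hc2, fun g => ?_, fun g => ?_, fun w hw => ?_⟩
  · rw [ha]
    exact hτf _
  · rw [hb]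
    have e1 := hk1 g.b
    rw [hk2, hτf] at e1
    apply mul_right_cancel₀ hc1
    show h g.b * f 1 = h 1 * τ0 g.b * f 1
    rw [← e1]; ring
  · rw [hc w hw, hk2, hτf]
    show h 1 * (f 1 * τ0 w.c) = f 1 * h 1 * τ0 w.c
    ring

/-- if `a ↦ c a`, `b ↦ c b` then `f ↦ c⁵ f` on `Z₁` -/
theorem f_of_lin (h2 : (2 : K) ≠ 0) (h3 : (3 : K) ≠ 0) {s : K} (hs0 : s ≠ 0) (hs1 : s ≠ 1) (α : MulAut (GU K)) {c : K}
    (ha : ∀ g : GU K, (α g).a = c * g.a) (hb : ∀ g : GU K, (α g).b = c * g.b)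
    (hc : ∀ w ∈ Z4 K, (α w).c = c ^ 2 * w.c) {w : GU K} (hw : w ∈ Z1 K) : (α w).f = c ^ 5 * w.f := by
  have c2 := H294.G2.ch_Z2 h3 hs0 hs1
  have c3 := ch_Z3 h2 h3 hs0 hs1
  have c1 := H294.G2.ch_Z1 h3
  have hd : ∀ w ∈ Z3 K, (α w).d = c ^ 3 * w.d := by
    intro w hw
    set g : GU K := x1 1 with hg
    set h : GU K := x3 (-(w.d / 2)) with hh
    have k0 : g * h * g⁻¹ * h⁻¹ ∈ Z3 K := H294.G2.com_Z4 g (x3_mem _)
    have k1 : w = (g * h * g⁻¹ * h⁻¹) * ((g * h * g⁻¹ * h⁻¹)⁻¹ * w) := by group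
    have kd : (g * h * g⁻¹ * h⁻¹).d = w.d := by
      rw [cm_d]
      simp only [hg, hh, x1, x3]
      field_simp
      ring
    have k2 : (g * h * g⁻¹ * h⁻¹)⁻¹ * w ∈ Z2 K := by
      have k5 := (Z3 K).mul_mem ((Z3 K).inv_mem k0) hw
      refine ⟨k5.1, k5.2.1, k5.2.2, ?_⟩
      rw [GU.mul_d, GU.inv_d, GU.inv_c, GU.inv_b, kd, k0.1, k0.2.1, k0.2.2]; ring
    have k3 := c2 α _ k2
    have k6 := c3 α _ k0
    have k4 : (α w).d = (α g * α h * (α g)⁻¹ * (α h)⁻¹).d := by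
      conv_lhs => rw [k1]
      rw [map_mul, GU.mul_d, k3.1, k3.2.2.2, mul_zero, add_zero, map_mul, map_mul, map_mul, map_inv, map_inv]
      ring
    have k7 : (α h).c = c ^ 2 * h.c := hc h (x3_mem _)
    rw [k4, cm_d, ha, hb, ha, hb, k7]
    simp only [hg, hh, x1, x3]
    field_simp
    ring
  have he : ∀ w ∈ Z2 K, (α w).e = c ^ 4 * w.e := by
    intro w hw
    set g : GU K := x1 1 with hg
    set h : GU K := x4 (-(w.e / 3)) with hh
    have k0 : g * h * g⁻¹ * h⁻¹ ∈ Z2 K := H294.G2.com_Z3 g (x4_mem _)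
    have k1 : w = (g * h * g⁻¹ * h⁻¹) * ((g * h * g⁻¹ * h⁻¹)⁻¹ * w) := by group
    have kd : (g * h * g⁻¹ * h⁻¹).e = w.e := by
      rw [cm_e]
      simp only [hg, hh, x1, x4]
      field_simp
      ring
    have k2 : (g * h * g⁻¹ * h⁻¹)⁻¹ * w ∈ Z1 K := by
      have k5 := (Z2 K).mul_mem ((Z2 K).inv_mem k0) hw
      refine ⟨k5.1, k5.2.1, k5.2.2.1, k5.2.2.2, ?_⟩
      rw [GU.mul_e, GU.inv_e, GU.inv_c, GU.inv_b, GU.inv_d, kd, k0.1, k0.2.1, k0.2.2.1, k0.2.2.2, hw.1]; ring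
    have k3 := c1 α _ k2
    have k8 := c3 α _ (x4_mem (K := K) (-(w.e / 3)))
    have k4 : (α w).e = (α g * α h * (α g)⁻¹ * (α h)⁻¹).e := by
      conv_lhs => rw [k1]
      rw [map_mul, GU.mul_e, k3.1, k3.2.2.2.2, map_mul, map_mul, map_mul, map_inv, map_inv]
      ring
    have k7 : (α h).d = c ^ 3 * h.d := hd h (x4_mem _)
    rw [k4, cm_e, ha, hb, ha, hb, k7, k8.2.2]
    simp only [hg, hh, x1, x4]
    field_simp
    ring
  have k1 : w = x2 1 * x5 w.f * (x2 1)⁻¹ * (x5 w.f)⁻¹ := by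
    obtain ⟨z1, z2, z3, z4, z5⟩ := hw
    ext
    · rw [cm_a, z1]
    · rw [cm_b, z2]
    · rw [cm_c, z3]; simp only [x2, x5]; ring
    · rw [cm_d, z4]; simp only [x2, x5]; ring
    · rw [cm_e, z5]; simp only [x2, x5]; ring
    · rw [cm_f]; simp only [x2, x5]; ring
  have k5 := c2 α _ (x5_mem (K := K) w.f)
  have k4 : (α w).f = (α (x2 1) * α (x5 w.f) * (α (x2 1))⁻¹ * (α (x5 w.f))⁻¹).f := by
    conv_lhs => rw [k1]
    rw [map_mul, map_mul, map_mul, map_inv, map_inv]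
  rw [k4, cm_f, k5.1, k5.2.1, k5.2.2.1, k5.2.2.2, hb, he _ (x5_mem _)]
  simp only [x2, x5]
  ring

end aut

/-- **(E5f)** -/
theorem stE5f (hGrp : H779.G2.StGrp.{u}) (hEss : StEss.{u}) (hOver : StOver.{u}) (hTI : H779.G2.StTI.{u})
    (hB : StBound'.{u}) (hTor : StTorus.{u}) (hExt : StExt.{u}) (hNExt : StNExt.{u}) (h5e : StE5e.{u}) :
    StE5f.{u} := by
  intro K _ p n _ hG h5 h7 F hF E hE hZ2
  by_contra ha
  have h2 : (2 : K) ≠ 0 := by simpa using ne_zero_of hG (m := 2) (by norm_num) (by omega)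
  have h3 : (3 : K) ≠ 0 := by simpa using ne_zero_of hG (m := 3) (by norm_num) (by omega)
  have := hG.fin
  have hpn : p ≤ p ^ n := Nat.le_self_pow (Nat.one_le_iff_ne_zero.1 hG.hn) p
  have h2n : 2 < p ^ n := by omega
  obtain ⟨s, hs0, hs1⟩ := H294.G2.exists_ne hG h2n
  have hS : IsPGroup p (⊤ : Subgroup (GU K)) := (hGrp hG).2.1
  have he : Ess (⊤ : Subgroup (GU K)) E p (F.autGroup E) := hEss F E hS hF hE
  set Γ := F.autGroup E with hΓ
  have hpE : IsPGroup p E := he.pgr.of_injective (Subgroup.inclusion he.E_le) (Subgroup.inclusion_injective _)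
  have hb : ¬ E ≤ Qb K := by
    intro h
    apply hZ2
    intro z hz
    exact he.cent z trivial fun e he' => (comm_Qb_Z2 (h he') hz).symm
  have hZ1E : Z1 K ≤ E := fun z hz => he.cent z trivial fun e _ => (comm_Z1 e hz).symm
  obtain ⟨x, hx, xa, xb⟩ := exists_both hb ha
  have iE := inv_self Γ (E := E)
  by_cases hZ : ∀ z ∈ E, (∀ g ∈ E, z * g = g * z) → z ∈ Z1 K
  · have i1 : Inv Γ (Z1 K) := by
      refine inv_cent iE iE (inv_bot Γ) fun y => ⟨fun hy => ?_, fun hy => ?_⟩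
      · exact ⟨hZ1E hy, fun b _ => cm_one.2 (comm_Z1 b hy).symm⟩
      · exact hZ y hy.1 fun g hg => cm_one.1 (hy.2 g hg)
    apply hZ2
    refine H732.PU.stChain he (Z1 K) (Z1 K) (Z1 K) i1 i1 i1 le_rfl le_rfl (Z2 K) le_top ?_ ?_ ?_ ?_
    · exact fun y hy e _ => com_Z2_top y hy e trivial
    · exact fun y hy e _ => com_Z2_top y hy e trivial
    · exact fun y hy e _ => com_Z2_top y hy e trivial
    · exact fun y _ m hm => comm_Z1 y hm
  push Not at hZ
  obtain ⟨z, hz, hzc, hz1⟩ := hZ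
  have zc : ∀ g ∈ E, z.a * g.b = z.b * g.a := by
    intro g hg
    have e1 := congrArg GU.c (Subgroup.mem_bot.1 (cm_one.2 (hzc g hg)))
    rw [cm_c, GU.one_c] at e1
    linear_combination -e1
  have za : z.a ≠ 0 := by
    intro za
    have e1 := zc x hx
    rw [za, zero_mul] at e1
    have zb : z.b = 0 := (mul_eq_zero.1 e1.symm).resolve_right xa
    exact hz1 (mem_Z1_of_comm h2 h3 xa xb ⟨za, zb⟩ (hzc x hx).symm)
  have zb : z.b ≠ 0 := by
    intro zb
    have e1 := zc x hx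
    rw [zb, zero_mul] at e1
    exact (mul_ne_zero za xb) e1
  have hE1 : ∀ g ∈ E, g.a = 0 → g ∈ Z1 K := by
    intro g hg ga
    have gb : g.b = 0 := by
      have e1 := zc g hg
      rw [ga, mul_zero] at e1
      exact (mul_eq_zero.1 e1).resolve_left za
    exact mem_Z1_of_comm h2 h3 za zb ⟨ga, gb⟩ (hzc g hg)
  -- indices
  set q := Nat.card K with hq
  have hqpn : q = p ^ n := hG.card
  have hq0 : 0 < q := Nat.card_pos
  have r12 : (Z1 K).relIndex (Z2 K) = q := relIndex_eq Z1_le_Z2 card_Z1 card_Z2 (by ring) hq0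
  have hE2 : E ⊓ Z2 K = Z1 K :=
    le_antisymm (fun g hg => hE1 g hg.1 hg.2.1) (le_inf hZ1E Z1_le_Z2)
  have rE2 : E.relIndex (Z2 K) = q := by rw [← Subgroup.inf_relIndex_right, hE2, r12]
  have hker : (homA E).ker = (Z1 K).subgroupOf E := by
    ext g
    rw [Subgroup.mem_subgroupOf]
    constructor
    · intro h
      exact hE1 g g.2 h
    · intro h
      exact h.1
  have r1E' : (Z1 K).relIndex E = Nat.card (homA E).range := by
    rw [Subgroup.relIndex, ← hker, Subgroup.index_ker]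
  have r1E : (Z1 K).relIndex E ≤ q := by
    rw [r1E']
    exact Subgroup.card_le_card_group _
  have cE : Nat.card E = q * (Z1 K).relIndex E := by
    rw [← Subgroup.relIndex_bot_left, ← Subgroup.relIndex_mul_relIndex _ _ _ (bot_le : ⊥ ≤ Z1 K) hZ1E,
      Subgroup.relIndex_bot_left, card_Z1]
  have b1 := hB he
  have hZ2N : Z2 K ≤ normalizerIn ⊤ E := by
    have hn : ∀ w ∈ Z2 K, ∀ e ∈ E, w * e * w⁻¹ ∈ E := by
      intro w hw e he'
      have h1 : w * e * w⁻¹ = (w * e * w⁻¹ * e⁻¹) * e := by group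
      rw [h1]
      exact E.mul_mem (hZ1E (com_Z2_top w hw e trivial)) he'
    intro w hw
    refine Subgroup.mem_inf.2 ⟨trivial, ?_⟩
    rw [Subgroup.mem_normalizer_iff]
    intro e
    refine ⟨hn w hw e, fun h => ?_⟩
    have h1 := hn w⁻¹ ((Z2 K).inv_mem hw) _ h
    have h4 : w⁻¹ * (w * e * w⁻¹) * w⁻¹⁻¹ = e := by group
    rwa [h4] at h1
  have b2 : q ≤ E.relIndex (normalizerIn ⊤ E) := by
    rw [← rE2]
    exact Subgroup.relIndex_le_of_le_right hZ2N Subgroup.index_ne_zero_of_finite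
  have b3 : (frattini E).index ≤ Nat.card E := Nat.le_of_dvd Nat.card_pos (Subgroup.index_dvd_card _)
  have b4 : q ^ 2 ≤ (frattini E).index := (Nat.pow_le_pow_left b2 2).trans b1
  have b5 : (Z1 K).relIndex E = q := by
    refine le_antisymm r1E ?_
    have h1 := b4.trans b3
    rw [cE, sq] at h1
    exact Nat.le_of_mul_le_mul_left h1 hq0
  have b6 : Nat.card E = q ^ 2 := by rw [cE, b5, sq]
  have b7 : frattini E = ⊥ := by
    have h1 := Subgroup.card_mul_index (frattini E)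
    have h4 : (frattini E).index = q ^ 2 := le_antisymm (b6 ▸ b3) b4
    rw [h4, b6] at h1
    have h6 : Nat.card (frattini E) = 1 := by
      have h8 : Nat.card (frattini E) * q ^ 2 = 1 * q ^ 2 := by rw [h1, one_mul]
      exact Nat.eq_of_mul_eq_mul_right (by positivity) h8
    exact Subgroup.eq_bot_of_card_eq _ h6
  have hcomm : ∀ g ∈ E, ∀ w ∈ E, g * w * g⁻¹ * w⁻¹ = 1 := by
    intro g hg w hw
    have h1 := Cfsg.Agent.Lib.FrattiniPGroup.commutator_mem_frattini (p := p) hpE (⟨g, hg⟩ : E) ⟨w, hw⟩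
    rw [b7, Subgroup.mem_bot] at h1
    exact congrArg Subtype.val h1
  have hpow : ∀ g ∈ E, g ^ p = 1 := by
    intro g hg
    have h1 := Cfsg.Agent.Lib.FrattiniPGroup.pow_mem_frattini (p := p) hpE (⟨g, hg⟩ : E)
    rw [b7, Subgroup.mem_bot] at h1
    have h4 := congrArg Subtype.val h1
    simpa using h4
  -- the coordinate `a` is onto
  have hsurj : ∀ t : K, ∃ g ∈ E, g.a = t := by
    have h1 : (homA E).range = ⊤ := by
      apply Subgroup.eq_top_of_card_eq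
      rw [← r1E', b5]
      rfl
    intro t
    have h4 : Multiplicative.ofAdd t ∈ (homA E).range := by rw [h1]; trivial
    obtain ⟨g, hg⟩ := h4
    exact ⟨g, g.2, hg⟩
  -- `StTorus`
  set M := hull Γ (Z1 K) with hM
  have hMi : Inv Γ M := H104.PU.inv_hull _
  have hZ1M : Z1 K ≤ M := H104.PU.le_hull hZ1E
  set C := cmod (Z2 K) M (⊥ : Subgroup (GU K)) with hCdef
  have hZ1C : Z1 K ≤ C := by
    intro w hw
    refine Subgroup.subset_closure ⟨hZ1M hw, fun a _ => ?_⟩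
    exact cm_one.2 (comm_Z1 a hw)
  have hidx : C.relIndex M ≤ E.relIndex (Z2 K) := by
    have h4 : C.relIndex M ≤ (Z1 K).relIndex M :=
      Subgroup.relIndex_le_of_le_left hZ1C Subgroup.index_ne_zero_of_finite
    have h6 : (Z1 K).relIndex M ≤ (Z1 K).relIndex E :=
      Subgroup.relIndex_le_of_le_right hMi.1 Subgroup.index_ne_zero_of_finite
    rw [rE2, ← b5]
    exact h4.trans h6
  obtain ⟨D, hDi, -, hDC, hCM, -, hDr, F', iF1, iF2, φ₁, φ₂, hcard, -, hφ1a, hφ1z, hφ2a, hφ2z, htor⟩ :=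
    hTor he ⊥ M (Z1 K) (Z2 K) (inv_bot Γ) hMi bot_le hZ1M
      (fun g hg w hw => Subgroup.mem_bot.2 (hcomm g hg w (hMi.1 hw)))
      (fun m hm => Subgroup.mem_bot.2 (hpow m (hMi.1 hm))) (by rw [sup_bot_eq])
      (fun g _ w hw => cm_one.2 (comm_Z1 g hw)) hZ2N hZ2
      (fun g hg w hw => by
        have h1 := comm_Z3 (Z2_le_Z3 hg) (Z2_le_Z3 hw)
        rw [cm_one.2 h1 |> Subgroup.mem_bot.1]
        exact E.one_mem)
      (fun w hw => by
        obtain ⟨k1, k2, k3, k4, k5⟩ := pow_Z3 (Z2_le_Z3 hw) p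
        have hp0 : (p : K) = 0 := by
          have := hG.char
          exact CharP.cast_eq_zero K p
        rw [hp0, zero_mul] at k4 k5
        exact hZ1E ⟨k1, k2, k3, k4, k5⟩)
      (fun g hg w _ => hZ1M (com_Z2_top g hg w trivial))
      (fun g _ m hm => by rw [Subgroup.mem_bot.1 hm, mul_one, one_mul]) hidx
  rw [rE2] at hDr hcard
  have c1 : (⊥ : Subgroup (GU K)).relIndex D * (D.relIndex M * M.relIndex E) = q ^ 2 := by
    rw [Subgroup.relIndex_mul_relIndex _ _ _ (hDC.trans hCM) hMi.1,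
      Subgroup.relIndex_mul_relIndex _ _ _ bot_le ((hDC.trans hCM).trans hMi.1), Subgroup.relIndex_bot_left, b6]
  rw [hDr] at c1
  have c2 : (⊥ : Subgroup (GU K)).relIndex D * M.relIndex E = 1 := by
    have h1 : q ^ 2 * ((⊥ : Subgroup (GU K)).relIndex D * M.relIndex E) = q ^ 2 * 1 := by rw [mul_one]; linarith [c1]
    exact Nat.eq_of_mul_eq_mul_left (by positivity) h1
  have hEM : E ≤ M := Subgroup.relIndex_eq_one.1 (Nat.eq_one_of_mul_eq_one_left c2)
  have hDbot : D ≤ ⊥ := Subgroup.relIndex_eq_one.1 (Nat.eq_one_of_mul_eq_one_right c2)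
  have hCZ : C ≤ Z1 K := by
    have h1 : C ≤ Qb K := by
      rw [hCdef, cmod, Subgroup.closure_le]
      rintro m ⟨-, hm2⟩
      exact cent_Z2.1 fun w hw => (cm_one.1 (hm2 w hw)).symm
    intro m hm
    have hmE : m ∈ E := hMi.1 (hCM hm)
    have hmb : m.b = 0 := h1 hm
    have e1 := zc m hmE
    rw [hmb, mul_zero] at e1
    exact hE1 m hmE ((mul_eq_zero.1 e1.symm).resolve_left zb)
  -- a generator of `F'ˣ`
  obtain ⟨l, hl⟩ := IsCyclic.exists_generator (α := F'ˣ)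
  have hlo : orderOf l = q - 1 := by
    rw [orderOf_eq_card_of_forall_mem_zpowers hl, Nat.card_units, Nat.card_eq_fintype_card, hcard]
  obtain ⟨γ, -, hγΓ, -, hγN, hγ1, hγ2⟩ := htor (l : F') l.ne_zero
  -- extension
  obtain ⟨δ1, hδ1, hδ1e⟩ := hNExt F hS hF E hE γ hγΓ hγN
  have c3 := ch_Z3 h2 h3 hs0 hs1
  have cZ2 := H294.G2.ch_Z2 h3 hs0 hs1
  have cQa := H294.G2.ch_Qa h3 hs0 hs1
  have cQb := H294.G2.ch_Qb h3 hs0 hs1
  have hEN : E ≤ normalizerIn ⊤ E := le_inf le_top Subgroup.le_normalizer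
  have hnoess : ∀ E', F.IsEssential p E' → ∀ R ≤ E', ¬ (Z2 K ≤ R ∧ ¬ R ≤ Qa K ∧ ¬ R ≤ Qb K) := by
    rintro E' hE' R hR ⟨m1, m2, m3⟩
    have he' : Ess (⊤ : Subgroup (GU K)) E' p (F.autGroup E') := hEss F E' hS hF hE'
    by_cases hZ3' : Z3 K ≤ E'
    · obtain ⟨l1, l2⟩ := Cfsg.Agent.H710.GT.stE5c hG h5 he' hZ3' (fun h => m3 (hR.trans h)) (fun h => m2 (hR.trans h))
      obtain ⟨hT, hC, -, hchar, -⟩ := hTI hG h2n (Qb K) (Or.inr rfl)
      have hn := top_le_normalizer_of_char (hchar (by omega))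
      have l3 := hOver F (Qb K) E' hS hF hE' l1 hn hC (hT _ (autInducedBy_le_autGroup F le_top) (syl_of_normal hS hF hn)) l2
      exact m3 (l3 ▸ hR)
    · exact h5e hG h5 F hF E' hE' (m1.trans hR) hZ3' (fun h => m3 (hR.trans h)) (fun h => m2 (hR.trans h))
  have hPN : Z2 K ≤ normalizerIn ⊤ E ∧ ¬ normalizerIn ⊤ E ≤ Qa K ∧ ¬ normalizerIn ⊤ E ≤ Qb K :=
    ⟨hZ2N, fun h => ha (hEN.trans h), fun h => hb (hEN.trans h)⟩
  have hPPinv : ∀ (α : MulAut (GU K)) (R : Subgroup (GU K)), (Z2 K ≤ R ∧ ¬ R ≤ Qa K ∧ ¬ R ≤ Qb K) →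
      (Z2 K ≤ R.map α.toMonoidHom ∧ ¬ R.map α.toMonoidHom ≤ Qa K ∧ ¬ R.map α.toMonoidHom ≤ Qb K) := by
    rintro α R ⟨m1, m2, m3⟩
    refine ⟨?_, fun h => m2 fun g hg => ?_, fun h => m3 fun g hg => ?_⟩
    · rw [← cZ2.map α]
      exact Subgroup.map_mono m1
    · have h1 := cQa α⁻¹ _ (h ⟨g, hg, rfl⟩)
      have h4 : α⁻¹ (α.toMonoidHom g) = g := MulAut.inv_apply_self _ α g
      rwa [h4] at h1
    · have h1 := cQb α⁻¹ _ (h ⟨g, hg, rfl⟩)
      have h4 : α⁻¹ (α.toMonoidHom g) = g := MulAut.inv_apply_self _ α g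
      rwa [h4] at h1
  obtain ⟨δ2, hδ2, hδ2e⟩ := hExt F hS hF (normalizerIn ⊤ E) ⊤ le_top (by
      rintro E' hE' ⟨R', hc, hR'⟩
      exact absurd (prop_of_conj hS hF (fun R => Z2 K ≤ R ∧ ¬ R ≤ Qa K ∧ ¬ R ≤ Qb K) hPPinv hnoess hc hPN)
        (hnoess E' hE' R' hR'))
    (fun α _ => Subgroup.map_top_of_surjective _ α.surjective) δ1 hδ1
  set α : MulAut (GU K) := MulAut.congr Subgroup.topEquiv δ2 with hα
  have hαE : ∀ g : E, α g = ((γ g : E) : GU K) := by
    intro g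
    have h1 := hδ2e ⟨g, hEN g.2⟩ ⟨g, trivial⟩ rfl
    have h4 := hδ1e g ⟨g, hEN g.2⟩ rfl
    rw [← h4, ← h1]
    rfl
  obtain ⟨a1, a2, τ, ha1, ha2, hSa, hSb, hSc⟩ := exists_semi h2 h3 hs0 hs1 α
  -- `φ₂` depends on `a` only
  have hφ2one : φ₂ 1 = 0 := by
    have h1 := hφ2a 1 M.one_mem 1 M.one_mem
    rw [one_mul] at h1
    linear_combination -h1
  have hφ2inv : ∀ g ∈ E, φ₂ g⁻¹ = -φ₂ g := by
    intro g hg
    have h1 := hφ2a g (hEM hg) g⁻¹ (hEM (E.inv_mem hg))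
    rw [mul_inv_cancel, hφ2one] at h1
    linear_combination -h1
  have hφ2eq : ∀ g ∈ E, ∀ w ∈ E, g.a = w.a → φ₂ g = φ₂ w := by
    intro g hg w hw hgw
    have h1 : g * w⁻¹ ∈ Z1 K := hE1 _ (E.mul_mem hg (E.inv_mem hw)) (by rw [GU.mul_a, GU.inv_a, hgw]; ring)
    have h4 := (hφ2z _ (hEM (E.mul_mem hg (E.inv_mem hw)))).2 (hZ1C h1)
    rw [hφ2a g (hEM hg) w⁻¹ (hEM (E.inv_mem hw)), hφ2inv w hw] at h4
    linear_combination h4
  have hφ2zero : ∀ g ∈ E, φ₂ g = 0 → g.a = 0 := by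
    intro g hg h
    exact (hCZ ((hφ2z _ (hEM hg)).1 h)).1
  -- the order of `a₁ τ`
  have hTk : ∀ (k : ℕ) (g : E), (((γ ^ k) g : E) : GU K).a = (fun t => a1 * τ t)^[k] (g : GU K).a := by
    intro k
    induction k with
    | zero => intro g; rfl
    | succ k ih =>
      intro g
      rw [Function.iterate_succ_apply', ← ih g, pow_succ']
      show ((γ ((γ ^ k) g) : E) : GU K).a = a1 * τ (((γ ^ k) g : E) : GU K).a
      rw [← hαE, hSa]
  have hφk : ∀ (k : ℕ) (g : E), φ₂ (((γ ^ k) g : E) : GU K) = ((l : F')⁻¹) ^ k * φ₂ (g : GU K) := by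
    intro k
    induction k with
    | zero => intro g; rw [pow_zero, pow_zero, one_mul]; rfl
    | succ k ih =>
      intro g
      rw [pow_succ', pow_succ', mul_assoc, ← ih g]
      exact hγ2 ((γ ^ k) g) (hEM ((γ ^ k) g).2)
  have horder : ∀ k : ℕ, (∀ t : K, (fun t => a1 * τ t)^[k] t = t) → (p ^ n - 1) ∣ k := by
    intro k hk
    obtain ⟨g, hg, ga⟩ := hsurj 1
    have e1 : φ₂ g ≠ 0 := fun h => one_ne_zero (ga.symm.trans (hφ2zero g hg h))
    have e2 := hφ2eq _ ((γ ^ k) ⟨g, hg⟩).2 g hg (by rw [hTk, hk])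
    rw [hφk] at e2
    have e3 : ((l : F')⁻¹) ^ k = 1 := by
      apply mul_right_cancel₀ e1
      rw [e2, one_mul]
    rw [← hqpn, ← hlo]
    apply orderOf_dvd_of_pow_eq_one
    apply Units.ext
    rw [Units.val_pow_eq_pow_val, Units.val_one]
    rwa [inv_pow, inv_eq_one] at e3
  -- `τ = 1`
  have hτ := Cfsg.Agent.H771.GT.semi_one hG h5 ha1 τ horder
  have haa : a2 = a1 := by
    have h1 := zc (α z) (by rw [hαE ⟨z, hz⟩]; exact (γ ⟨z, hz⟩).2)
    rw [hSa, hSb, hτ, hτ] at h1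
    apply mul_right_cancel₀ (mul_ne_zero za zb)
    linear_combination h1
  subst haa
  have hSf : ∀ w ∈ Z1 K, (α w).f = a2 ^ 5 * w.f := fun w hw =>
    f_of_lin h2 h3 hs0 hs1 α (fun g => by rw [hSa, hτ]) (fun g => by rw [hSb, hτ])
      (fun w hw => by rw [hSc w hw, hτ]; ring) hw
  have hord : ∀ k : ℕ, a2 ^ k = 1 → (p ^ n - 1) ∣ k := by
    intro k hk
    apply horder k
    intro t
    have h1 : ∀ j : ℕ, (fun t => a2 * τ t)^[j] t = a2 ^ j * t := by
      intro j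
      induction j with
      | zero => rw [pow_zero, one_mul]; rfl
      | succ j ih => rw [Function.iterate_succ_apply', ih, hτ, pow_succ']; ring
    rw [h1, hk, one_mul]
  -- the two maps
  choose G hGE hGa using hsurj
  set ψ : K → F' := fun t => φ₂ (G t) with hψ
  have hψg : ∀ g ∈ E, ψ g.a = φ₂ g := fun g hg => hφ2eq _ (hGE _) g hg (hGa _)
  have hψadd : ∀ x y, ψ (x + y) = ψ x + ψ y := by
    intro x y
    have h1 := hψg (G x * G y) (E.mul_mem (hGE x) (hGE y))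
    rw [GU.mul_a, hGa, hGa, hφ2a _ (hEM (hGE x)) _ (hEM (hGE y))] at h1
    exact h1
  have hψ0 : ψ 0 = 0 := by
    have h1 := hψadd 0 0
    rw [add_zero] at h1
    linear_combination -h1
  have hψinj : Function.Injective ψ := by
    intro x y hxy
    have h1 : ψ (x - y) = 0 := by
      have h4 := hψadd (x - y) y
      rw [sub_add_cancel] at h4
      linear_combination hxy - h4
    have h4 := hφ2zero _ (hGE (x - y)) h1
    rw [hGa] at h4
    exact sub_eq_zero.1 h4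
  have hψc : ∀ t, ψ (a2 * t) = (l : F')⁻¹ * ψ t := by
    intro t
    have h1 := hγ2 ⟨G t, hGE t⟩ (hEM (hGE t))
    have h4 : ψ (((γ ⟨G t, hGE t⟩ : E) : GU K).a) = φ₂ ((γ ⟨G t, hGE t⟩ : E) : GU K) := hψg _ (γ ⟨G t, hGE t⟩).2
    rw [h1, ← hαE, hSa, hτ] at h4
    have h6 : (G t).a = t := hGa t
    rw [← h4]
    show ψ (a2 * t) = ψ (a2 * (G t).a)
    rw [h6]
  have hFin : Finite K := hG.fin
  have hψbij : Function.Bijective ψ := by
    refine (Nat.bijective_iff_injective_and_card ψ).2 ⟨hψinj, ?_⟩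
    rw [Nat.card_eq_fintype_card (α := F'), hcard]
  set φ : K → F' := fun u => φ₁ (x6 u) with hφ
  have hφadd : ∀ x y, φ (x + y) = φ x + φ y := by
    intro x y
    have h1 := hφ1a _ (hZ1C (x6_mem x)) _ (hZ1C (x6_mem y))
    have h4 : x6 x * x6 y = x6 (x + y) := by
      ext
      all_goals simp only [GU.mul_a, GU.mul_b, GU.mul_c, GU.mul_d, GU.mul_e, GU.mul_f, x6]
      all_goals ring
    rw [h4] at h1
    exact h1
  have hφ0 : φ 0 = 0 := by
    have h1 := hφadd 0 0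
    rw [add_zero] at h1
    linear_combination -h1
  have hφinj : Function.Injective φ := by
    intro x y hxy
    have h1 : φ (x - y) = 0 := by
      have h4 := hφadd (x - y) y
      rw [sub_add_cancel] at h4
      linear_combination hxy - h4
    have h4 := hDbot ((hφ1z _ (hZ1C (x6_mem (x - y)))).1 h1)
    have h6 : (x6 (x - y)).f = (1 : GU K).f := by rw [Subgroup.mem_bot.1 h4]
    rw [GU.one_f] at h6
    exact sub_eq_zero.1 h6
  have cZ1 := H294.G2.ch_Z1 (K := K) h3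
  have hφc : ∀ u, φ (a2 ^ 5 * u) = l * φ u := by
    intro u
    have h1 := hγ1 ⟨x6 u, hZ1E (x6_mem u)⟩ (hZ1C (x6_mem u))
    rw [← hαE] at h1
    have h4 : α (x6 u) = x6 (a2 ^ 5 * u) := by
      obtain ⟨k1, k2, k3, k4, k5⟩ := cZ1 α _ (x6_mem u)
      ext
      · exact k1
      · exact k2
      · exact k3
      · exact k4
      · exact k5
      · exact hSf _ (x6_mem u)
    rw [h4] at h1
    exact h1
  have hψχ : ∀ u, ψ ((Equiv.ofBijective ψ hψbij).symm (φ u)) = φ u := fun u =>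
    (Equiv.ofBijective ψ hψbij).apply_symm_apply (φ u)
  refine Cfsg.Agent.H771.GT.num_false hG h5 h7 ha1 hord (fun u => (Equiv.ofBijective ψ hψbij).symm (φ u)) ?_ ?_ ?_
  · intro x y
    apply hψinj
    rw [hψadd, hψχ, hψχ, hψχ, hφadd]
  · intro x y hxy
    exact hφinj ((Equiv.ofBijective ψ hψbij).symm.injective hxy)
  · intro u
    apply hψinj
    have h1 := hψc (a2⁻¹ * (Equiv.ofBijective ψ hψbij).symm (φ u))
    rw [mul_inv_cancel_left₀ ha1, hψχ] at h1
    rw [hψχ, hφc]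
    exact (eq_inv_mul_iff_mul_eq₀ l.ne_zero).1 h1

end Cfsg.Agent.H15.GT
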